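import Cfsg.Agent.RI5.Base

/-!
# The root involution theorem: the sets `E_d ∪ {1}` are groups
-/

set_option autoImplicit false

namespace Cfsg.Lib.Class.RI

open Subgroup Cfsg.Lib.Local Cfsg.Lib.Solv Cfsg.Agent
open scoped commutatorElement

universe u

variable {G : Type u} [Group G] {D : Set G}

theorem isPGroup_pair_of_pow {a b : G} {n : ℕ} (ha2 : a * a = 1) (hb2 : b * b = 1)
    (h4 : (a * b) ^ 2 ^ n = 1) : IsPGroup 2 (closure ({a, b} : Set G)) := by
  rintro ⟨g, hg⟩
  obtain ⟨k, rfl | rfl⟩ := dih_mem_closure_form ha2 hb2 hg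
  · refine ⟨n, Subtype.ext ?_⟩
    show ((a * b) ^ k) ^ (2 ^ n) = 1
    rw [← zpow_natCast, ← zpow_mul, mul_comm k, zpow_mul, zpow_natCast, h4, one_zpow]
  · refine ⟨1, Subtype.ext ?_⟩
    show (a * (a * b) ^ k) ^ (2 ^ 1) = 1
    rw [pow_one, pow_two, mul_assoc, ← mul_assoc _ a, dih_zpow_mul (dih_inverts ha2 hb2), mul_assoc,
      il ha2, ← zpow_add]
    simp

/-- `k` multiplies `a` into the set `E_a` -/
structure Pk (D : Set G) (k a : G) : Prop where
  l : a ∈ D
  m : a * k ∈ D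
  s : SameC D a (a * k)

namespace Pk

variable {k a : G} (p : Pk D k a) (hD : Rt D)
include p hD

theorem eq : a * (a * k) = k := il (hD.sq a p.l) k

theorem mem_EE : k ∈ EE D a :=
  p.eq hD ▸ mul_mem (RI.mem_EE p.l (SameC.refl D a)) (RI.mem_EE p.m p.s)

theorem commute {w : G} (hw : w ∈ D) (c : Commute a w) : Commute k w :=
  commute_of_mem_EE (p.mem_EE hD) hw c

theorem sq : k * k = 1 := hD.sq_EE (p.mem_EE hD)

theorem comm : Commute k a := p.commute hD p.l (Commute.refl a)

theorem cji [Finite G] {g : G} (hg : g ∈ D) (c : Commute k g) : Pk D k (g * a * g) := by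
  have e : g * a * g * k = g * (a * k) * g := by rw [mul_assoc _ g, ← c.eq]; group
  exact ⟨hD.cj a p.l g hg, e ▸ hD.cj _ p.m g hg, e ▸ hD.sameC_cji p.s hg⟩

theorem not_op (h1 : k ≠ 1) {z : G} (hz : z ∈ D) (c : Commute k z) : ¬ Op a z :=
  hD.not_op_of_commute_mul p.l p.m hz (fun e => h1 (by simpa using e)) (p.s.commute p.m)
    (by rwa [p.eq hD])

theorem cji_eq_mul {y : G} (hy : y ∈ D) (f : Fr a y) :
    y * (k * y * k) = cm (a * k) y * cm a y := by
  have sa := hD.sq a p.l
  have f' := hD.fr_of_sameC p.l p.m hy p.s f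
  have c : Commute (a * k) (cm a y) := ((p.s _ (hD.ln_cm p.l hy f).r).1 (hD.ln_cm p.l hy f).c)
  have e : k * y * k = a * k * (a * y * a) * (a * k) := by
    rw [← (p.comm hD).eq]; simp only [mul_assoc, il sa, cl (p.comm hD).symm, sa, mul_one]
  rw [e, cj_eq_mul_cm a (hD.sq y hy), hD.cms p.l hy f, cji_mul (hD.sq _ p.m),
    cji_eq c (hD.sq _ p.m), cj_eq_mul_cm _ (hD.sq y hy), hD.cms p.m hy f', mul_assoc,
    il (hD.sq y hy)]

variable [Finite G] (hc : Cls D)
include hc

theorem k1 {y : G} (hy : y ∈ D) (f : Fr a y) (c : Commute k y) : Pk D k (cm a y) := by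
  obtain ⟨m, lm, fm, em, o⟩ := hD.exists_o3 hc hy p.l f.symm
  obtain ⟨n1, -, -⟩ := hD.nat o lm.r (hD.ln_cm hy p.l f.symm) fm
  have hσ := hD.cj m lm.r y hy
  rw [em] at n1
  have := p.cji hD hσ ((c.mul_right (p.commute hD lm.r lm.c)).mul_right c)
  rwa [cji_swap (hD.sq _ hσ) n1, hD.cms p.l hy f] at this

end Pk

variable [Finite G]

namespace Nd

variable (h : Nd D)
include h

theorem pk_cj {k a : G} (p : Pk D k a) (g : G) : Pk D (g * k * g⁻¹) (g * a * g⁻¹) := by
  have e : g * a * g⁻¹ * (g * k * g⁻¹) = g * (a * k) * g⁻¹ := by group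
  exact ⟨h.cj p.l g, e ▸ h.cj p.m g, e ▸ h.sameC_cj p.s g⟩

theorem k2 {k d m y : G} (pd : Pk D k d) (pm : Pk D k m) (l : Ln D d m) (hy : y ∈ D) (f : Fr d y)
    (o : Op y m) : Fx D k y := by
  have hD := h.rt
  have lc := hD.ln_cm l.l hy f
  have fm := hD.fr_of_ln' l lc fun c => hD.L0 (hD.ln_cm' l.l hy f) l.r o c.symm
  obtain ⟨g, hg, s, o1, f1, e1⟩ := hD.path h.cls l hy f fm
  have ck := pd.commute hD lc.r lc.c
  have cm' := pm.comm hD
  have sk := pm.sq hD
  have sm := hD.sq m l.r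
  have f2 := hD.fr_of_sameC l.r pm.m lc.r pm.s fm
  have e2 : cm (cm d y) (m * k) = cm m (cm d y) := by
    rw [← hD.cms l.r lc.r fm]
    generalize cm d y = c at *
    simp only [cm, mul_assoc, cl ck, cl cm', sk, mul_one]
  have o2 := hD.o3 (hD.cm_mem l.r lc.r fm) hg pm.m f1 e1 f2.symm e2
  refine h.fx_congr s.symm ?_
  have s1 := hD.sameC_cji pm.s (hD.cj g hg m l.r)
  rw [o1.symm.swap sm] at s1
  have e3 : m * g * m * (m * k) * (m * g * m) = k * g * k := by
    calc m * g * m * (m * k) * (m * g * m) = m * (g * (m * k) * g) * m := by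
          simp only [mul_assoc, il sm, cl cm']
      _ = k * g * k := by
          rw [o2.2]; simp only [mul_assoc, il sm, cm'.eq]
  rwa [Fx, inv_of_sq sk, ← e3]

variable [Gate.S1175.{u}]

theorem pk_mem_EE {k a y : G} (p : Pk D k a) (hy : y ∈ D) (f : Fr a y) :
    y * (k * y * k) ∈ EE D (cm a y) := by
  have hD := h.rt
  rw [p.cji_eq_mul hD hy f]
  exact mul_mem (mem_EE (hD.cm_mem p.m hy (hD.fr_of_sameC p.l p.m hy p.s f))
    (h.sameC_cm_l p.l p.m hy p.s f)) (mem_EE (hD.cm_mem p.l hy f) (SameC.refl D _))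

theorem fix1 {k d p y : G} (pd : Pk D k d) (pp : Pk D k p) (l : Ln D d p) (n : ¬ SameC D d p)
    (hy : y ∈ D) (f : Fr d y) : y * (k * y * k) ∉ D := by
  have hD := h.rt
  have hc := h.cls
  intro hv
  have sk := pd.sq hD
  have sy := hD.sq y hy
  have sd := hD.sq d l.l
  have sp := hD.sq p l.r
  have n1 : ¬ Commute k y := fun c => by
    rw [cji_eq c sk, sy] at hv
    exact hD.ne 1 hv rfl
  have lc := hD.ln_cm l.l hy f
  have lc' := hD.ln_cm' l.l hy f
  have s1 := hD.sameC_of_mem_EE hc lc.r hv (h.pk_mem_EE pd hy f)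
  have hky : k * y * k ∈ D := by simpa [inv_of_sq sk] using h.cj hy k
  have fp : Fr p y := hD.fr_of l.r hy (fun c => n1 (pp.commute hD hy c)) fun o => by
    have s2 := h.k2 pd pp l hy f o.symm
    rw [Fx, inv_of_sq sk] at s2
    exact hD.not_sameC_cm' l.l hy f (s1.trans (hD.sameC_of_mem_EE hc hy hv
      (mul_mem (mem_EE hy (SameC.refl D y)) (mem_EE hky s2))).symm)
  have le := hD.ln_cm l.r hy fp
  have le' := hD.ln_cm' l.r hy fp
  have s2 := s1.trans (hD.sameC_of_mem_EE hc le.r hv (h.pk_mem_EE pp hy fp)).symm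
  obtain ⟨m, hm, fm, em⟩ := hD.exists_cm' hc l.symm fun s => n s.symm
  have lm : Ln D d m := em ▸ (hD.ln_cm' l.r hm fm).symm
  have sm := hD.sq m hm
  by_cases cmc : Commute m (cm d y)
  · have a1 : d * y * d = y * cm d y := by rw [cj_eq_mul_cm d sy, hD.cms l.l hy f]
    have a2 : p * y * p = y * cm p y := by rw [cj_eq_mul_cm p sy, hD.cms l.r hy fp]
    have a3 : m * p * m = p * d := by rw [cj_eq_mul_cm m sp, em]
    have b1 : Commute m (cm p y) := ((s2 m hm).1 cmc.symm).symm
    have b2 : Commute p (cm d y) := ((s2 p l.r).2 le.c.symm).symm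
    have b3 : Commute (cm d y) (cm p y) := s2.commute le.r
    have a4 : p * d * y * (p * d) = y * cm p y * cm d y := by
      calc p * d * y * (p * d) = p * (d * y * d) * p := by simp only [mul_assoc, l.c.eq]
        _ = _ := by rw [a1, cji_mul sp, a2, cji_eq b2 sp]
    have a5 : p * d * (m * y * m) * (p * d) = m * y * m * cm p y := by
      rw [← a3, ← cji_mul sm, ← cji_mul sm, a2, cji_mul sm, cji_eq b1 sm]
    have fmy : Fr y m := hD.fr_of hy hm (fun c => by
      rw [cji_eq c.symm sm, a4] at a5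
      exact hD.ne _ lc.r (by simpa using a5)) (hD.L0' lc' hm cmc.symm)
    have lj := hD.ln_cm hy hm fmy
    have lj' := hD.ln_cm' hy hm fmy
    have b4 : Commute (cm d y) (cm y m) := commute_cm lc'.c.symm cmc.symm
    have b5 : Commute (cm p y) (cm y m) := commute_cm le'.c.symm b1.symm
    rw [cj_eq_mul_cm m sy, cji_mul (sq_mul_of_commute sp sd l.c.symm), a4] at a5
    have sc := hD.sq _ lc.r
    have sj := hD.sq _ lj.r
    have b6 := lc.c
    have hj := lj.r
    have a6 : p * cm y m * p = cm d y * (d * cm y m * d) := by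
      generalize cm y m = j at *
      generalize cm d y = c at *
      generalize cm p y = c' at *
      have a7 : p * d * j * (p * d) = c * j := by
        have : c' * c * (p * d * j * (p * d)) = c' * c * (c * j) := by
          rw [mul_assoc c' c (c * j), il sc, b5.eq]
          simpa only [mul_assoc, mul_right_inj] using a5
        exact mul_left_cancel this
      calc p * j * p = d * (p * d * j * (p * d)) * d := by
            simp only [mul_assoc, cl l.c, il sd, sd, mul_one]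
        _ = _ := by rw [a7, ← mul_assoc, b6.eq]; simp only [mul_assoc]
    by_cases cjd : Commute d (cm y m)
    · rw [cji_eq cjd sd] at a6
      have a8 : cm (cm y m) p = cm d y := by rw [cm_eq_mul_cj, a6, b4.eq, il sj]
      have f1 : Fr (cm y m) p := fr_of_cm sj sp
        (fun c => hD.ne _ lc.r (a8 ▸ (cm_eq_one_iff sj sp).2 c)) (by rw [a8, sc])
      have := pp.k1 hD hc hj f1.symm (pd.commute hD hj cjd)
      rw [hD.cms hj l.r f1, a8] at this
      exact n1 (this.commute hD hy lc'.c.symm)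
    · have f1 := hD.fr_of_ln' lj' lm.symm fun c => cjd c.symm
      have s3 := hD.sameC_cm hc lj' lm.symm f1
      have h2 := hD.cm_mem hj l.l f1
      rw [cj_eq_mul_cm d sj] at a6
      have b7 : Commute (cm d y) (cm (cm y m) d) := ((s3 _ lc.r).1 cmc).symm
      have a8 : cm (cm y m) p = cm d y * cm (cm y m) d := by
        rw [cm_eq_mul_cj, a6, ← cl b4, il sj]
      have a9 : cm (cm y m) p * cm (cm y m) p = 1 := by
        rw [a8]; exact sq_mul_of_commute sc (hD.sq _ h2) b7
      have b8 : Commute p (cm (cm y m) p) := by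
        refine commute_of_cji sp ?_
        rw [← inv_of_sq a9]
        nth_rewrite 2 [inv_of_sq a9]
        rw [← inv_of_sq a9]
        generalize cm y m = j at *
        simp only [cm, mul_inv_rev, inv_of_sq sj, inv_of_sq sp, mul_assoc, sp, mul_one]
      rw [a8] at b8
      have b9 := b2.mul_right b8
      rw [il sc] at b9
      exact hD.ncf l.r hm fm ((s3 p l.r).2 b9.symm).symm
  have fmc := hD.fr_of_ln' lm lc cmc
  obtain ⟨y', hy', fy, ey⟩ := hD.exists_cm' hc lm fun s => hD.ncf l.r hm fm ((s p l.r).1 l.c).symm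
  have x1 := h.k2 pd pp l hy' fy (hD.o3 l.l hy' l.r fy ey fm.symm
    ((hD.cms l.r hm fm).trans em)).1
  obtain ⟨m₀, l0, f0, e0, o0⟩ := hD.exists_o3 hc hy l.l f.symm
  rw [hD.cms l.l hy f] at f0 e0
  have ev := pd.cji_eq_mul hD hy f
  have fk := hD.fr_of_sameC l.l pd.m hy pd.s f
  have lk := hD.ln_cm pd.m hy fk
  have s4 := h.sameC_cm_l l.l pd.m hy pd.s f
  have cv : Commute y (y * (k * y * k)) := (s1 y hy).1 lc'.c.symm |>.symm
  have ck : Commute k (y * (k * y * k)) := pd.commute hD hv ((s1 d l.l).1 lc.c.symm).symm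
  have lv : Ln D y (y * (k * y * k)) :=
    ⟨hy, hv, fun e => hD.not_sameC_cm' l.l hy f (by rwa [← e] at s1), cv, by rwa [il sy]⟩
  have akv : k * y * k = y * (y * (k * y * k)) := (il sy _).symm
  generalize y * (k * y * k) = v at *
  have fv := hD.fr_of_sameC lc.r hv l0.r s1 f0
  obtain ⟨n2, -, -⟩ := hD.nat o0 l0.r lc' f0
  obtain ⟨n3, f3, n4⟩ := hD.nat o0 l0.r lv fv
  have hσ := hD.cj m₀ l0.r y hy
  have hb := hD.cm_mem hv l0.r fv
  have s5 := hD.sameC_cji s1 hσ
  have m1 := hD.cj _ lk.r _ hσ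
  have e5 : cm (d * k) y = cm d y * v := by
    rw [ev, ← mul_assoc, ← (s4.commute lk.r).symm.eq, mul_assoc, hD.sq _ lc.r, mul_one]
  rw [e5, cji_mul (hD.sq _ hσ), n2, n3, e0] at m1
  rw [n2, n3, e0] at s5
  have a1 : cm v m₀ * y * cm v m₀ = y * v := by
    rw [cj_eq_mul_cm _ sy, hD.cms hb hy f3, n4]
  generalize cm v m₀ = b at *
  have sb := hD.sq b hb
  have cb : Commute k b := pd.commute hD hb (s5.commute hb)
  have e6 : d * k * (k * b) = d * b := by rw [mul_assoc, il sk]
  have pt : Pk D (k * b) (d * k) := ⟨pd.m, e6 ▸ m1, e6 ▸ pd.s.symm.trans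
    (hD.sameC_of_mem_EE hc l.l m1 (mul_mem (mem_EE l.l (SameC.refl D d)) (mem_EE hb s5)))⟩
  have ct : Commute (k * b) y := by
    refine commute_of_cji (pt.sq hD) ?_
    calc k * b * y * (k * b) = k * (b * y * b) * k := by
          nth_rewrite 2 [cb.eq]; simp only [mul_assoc]
      _ = y := by rw [a1, cji_mul sk, akv, cji_eq ck sk, mul_assoc, hD.sq v hv, mul_one]
  have x2 := h.k2 pt (pt.k1 hD hc hy fk ct) lk hy' (hD.fr_of_sameC l.l pd.m hy' pd.s fy)
    (hD.op_of_sameC' lc.r lk.r hy' s4 (hD.op_of_path hc lc hy' fy (ey ▸ fmc.symm)).symm).symm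
  have x3 := h.fx_mul x1 x2
  rw [il sk] at x3
  exact hD.ncf l.l hy' fy ((s5 y' hy').2 (h.commute_of_fx hb hy' x3))

theorem exists_op_cj (hO : pCore 2 G = ⊥) {k a : G} (p : Pk D k a) (h1 : k ≠ 1) :
    ∃ f ∈ D, Op f (k * f * k) := by
  have : Fact (Nat.Prime 2) := ⟨Nat.prime_two⟩
  have hD := h.rt
  by_contra hn
  push Not at hn
  have sk := p.sq hD
  have hp := baer_suzuki_elem (p := 2) k fun g => by
    have q := h.pk_cj p g
    generalize g * k * g⁻¹ = k', g * a * g⁻¹ = b at q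
    have q' := h.pk_cj q k
    rw [inv_of_sq sk] at q'
    have e : ∀ n, (k * k') ^ 2 ^ (n + 1) = (k * k' * k * k') ^ 2 ^ n := fun n => by
      rw [pow_succ', pow_mul, pow_two]; simp only [mul_assoc]
    by_cases c : Commute b (k * b * k)
    · refine isPGroup_pair_of_pow (n := 2) sk (q.sq hD) ?_
      rw [e, pow_one, pow_two]
      exact sq_mul_of_commute (q'.sq hD) (q.sq hD)
        (commute_EE_EE q.l c.symm (q'.mem_EE hD) (q.mem_EE hD))
    have f := hD.fr_of q.l q'.l c (hn b q.l)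
    have m1 : k' ∈ closure {y | ∃ e, SameC D (cm b (k * b * k)) e ∧ Ln D e y} :=
      q.eq hD ▸ mul_mem (subset_closure ⟨_, SameC.refl D _, (hD.ln_cm q.l q'.l f).symm⟩)
        (subset_closure ⟨_, h.sameC_cm_l q.l q.m q'.l q.s f,
          (hD.ln_cm q.m q'.l (hD.fr_of_sameC q.l q.m q'.l q.s f)).symm⟩)
    have m2 : k * k' * k ∈ closure {y | ∃ e, SameC D (cm b (k * b * k)) e ∧ Ln D e y} :=
      q'.eq hD ▸ mul_mem (subset_closure ⟨_, SameC.refl D _, (hD.ln_cm' q.l q'.l f).symm⟩)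
        (subset_closure ⟨_, h.sameC_cm_r q.l q'.l q'.m q'.s f,
          (hD.ln_cm' q.l q'.m (hD.fr_of_sameC' q.l q'.l q'.m q'.s f)).symm⟩)
    obtain ⟨n, hn⟩ := hD.isPGroup_lines _ ⟨_, mul_mem m2 m1⟩
    exact isPGroup_pair_of_pow (n := n + 1) sk (q.sq hD) (by rw [e]; exact congrArg Subtype.val hn)
  have := le_pCore normalClosure_normal hp (subset_normalClosure (Set.mem_singleton k))
  rw [hO, mem_bot] at this
  exact h1 this

theorem trick (hO : pCore 2 G = ⊥) {k a : G} (p : Pk D k a) (h1 : k ≠ 1)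
    (H : ∀ z ∈ D, Commute k z → ∃ c, Pk D k c ∧ Commute z c ∧
      ∀ y ∈ D, Fr c y → y * (k * y * k) ∉ D) : k ∈ D := by
  have hD := h.rt
  have sk := p.sq hD
  obtain ⟨f, hf, o⟩ := h.exists_op_cj hO p h1
  obtain ⟨z, hz, oz, cz, ez, -⟩ := hD.third sk
    (fun d hd => by simpa [inv_of_sq sk] using h.cj hd k) hf o
  obtain ⟨c, pc, czc, hH⟩ := H z hz cz
  have sz := hD.sq z hz
  have st := sq_mul_of_commute sk sz cz
  have t1 : Commute (k * z) f := by
    refine commute_of_cji st ?_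
    calc k * z * f * (k * z) = k * (z * f * z) * k := by
          nth_rewrite 2 [cz.eq]; simp only [mul_assoc]
      _ = f := by rw [ez, cji_cji sk]
  have t2 : Commute (k * z) z := cz.mul_left (Commute.refl z)
  have t3 : Commute (k * z) c := (pc.comm hD).mul_left czc
  have oc : Op c f := hD.op_of pc.l hf (fun e => by
    rw [cji_eq (pc.commute hD hf e) sk] at o
    exact o.1 rfl) fun e => by
      have m := h.pk_mem_EE pc hf e
      have := (Commute.refl f).mul_right
        (commute_of_mem_EE m hf (hD.ln_cm' pc.l hf e).c.symm).symm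
      rw [il (hD.sq f hf)] at this
      exact hD.nc hf (by simpa [inv_of_sq sk] using h.cj hf k) o this
  obtain ⟨r, hr, mr, er⟩ := hD.exists_swap pc.l hf oc
  obtain ⟨r', hr', mr', er'⟩ := hD.exists_swap hf hz oz.symm
  have sr := hD.sq r hr
  have sr' := hD.sq r' hr'
  have c1 := commute_of_mem_closure_pair t3 t1 mr
  have c2 := commute_of_mem_closure_pair t1 t2 mr'
  have q := h.pk_cj (h.pk_cj pc r) r'
  rw [hD.inv hr, hD.inv hr', er, er'] at q
  have h0 := hD.cj _ (hD.cj z hz r hr) r' hr'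
  have c0 := commute_cji (commute_cji czc sr) sr'
  rw [er, er'] at c0
  have e0 : k * z = r' * (r * k * r) * r' * (r' * (r * z * r) * r') := by
    rw [← cji_mul sr', ← cji_mul sr, cji_eq c1.symm sr, cji_eq c2.symm sr']
  generalize r' * (r * k * r) * r' = k₀ at *
  generalize r' * (r * z * r) * r' = z₀ at *
  have s0 := hD.sq z₀ h0
  by_cases hall : ∀ y, Ln D z y → Commute z₀ y
  · have top := h.eq_top hz hf oz (H := centralizer {k * z})
      (fun y l => mem_centralizer_singleton_iff.2 (by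
        rw [e0]; exact ((q.commute hD l.r l.c).mul_left (hall y l)).symm.eq))
      (mem_centralizer_singleton_iff.2 t1.symm.eq)
    have := eq_one_of_central hO st fun g =>
      (mem_centralizer_singleton_iff.1 (top ▸ mem_top g : g ∈ centralizer {k * z})).symm
    rwa [eq_of_mul_eq_one sk this]
  push Not at hall
  obtain ⟨y, l, n⟩ := hall
  have fy := hD.fr_of l.r h0 (fun e => n e.symm) (hD.L0' l.symm h0 c0.symm)
  have e1 : k * y * k = z₀ * y * z₀ := by
    have c3 : Commute k₀ z₀ := by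
      have : k₀ * z₀ * (k₀ * z₀) = 1 := e0 ▸ st
      exact commute_of_sq_mul (q.sq hD) s0 this
    calc k * y * k = k * z * y * (k * z) := by
          rw [mul_assoc k z, l.c.eq, cz.eq]; simp only [mul_assoc, il sz]
      _ = z₀ * (k₀ * y * k₀) * z₀ := by
          rw [e0]; nth_rewrite 1 [c3.eq]; simp only [mul_assoc]
      _ = _ := by rw [cji_eq (q.commute hD l.r l.c) (q.sq hD)]
  refine (hH y l.r (hD.fr_of pc.l l.r (fun e => n ?_) fun e => hD.L0' l.symm pc.l czc e.symm) ?_).elim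
  · rw [cji_eq (pc.commute hD l.r e) sk] at e1
    exact commute_of_cji s0 e1.symm
  · rw [e1, ← cm_eq_mul_cj]; exact hD.cm_mem l.r h0 fy

theorem pk_inj (hO : pCore 2 G = ⊥) {k a y : G} (p : Pk D k a) (hy : y ∈ D) (f : Fr a y)
    (c : Commute k y) : k = 1 := by
  have hD := h.rt
  by_contra h1
  have q := p.k1 hD h.cls hy f c
  have l := hD.ln_cm p.l hy f
  have := h.trick hO p h1 fun z hz cz => by
    by_cases e : Commute z a
    · exact ⟨a, p, e, fun w hw fw =>
        h.fix1 p q l (fun s => hD.not_sameC_cm p.l hy f s.symm) hw fw⟩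
    · have fz := hD.fr_of p.l hz (fun k => e k.symm) (p.not_op hD h1 hz cz)
      exact ⟨_, p.k1 hD h.cls hz fz cz, (hD.ln_cm' p.l hz fz).c, fun w hw fw =>
        h.fix1 (p.k1 hD h.cls hz fz cz) p (hD.ln_cm p.l hz fz).symm
          (hD.not_sameC_cm p.l hz fz) hw fw⟩
  exact hD.ncf p.l hy f ((hD.sameC_of_mem_EE h.cls p.l this (p.mem_EE hD) y hy).2 c)

/-- The sets `E_d ∪ {1}` are groups. -/
theorem he (hO : pCore 2 G = ⊥) : HE D := by
  have hD := h.rt
  have hc := h.cls
  intro d hd e he s hne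
  have sd := hD.sq d hd
  have p : Pk D (d * e) d := ⟨hd, by rwa [il sd], by rwa [il sd]⟩
  have h1 : d * e ≠ 1 := fun k => hne (eq_of_mul_eq_one sd k)
  by_contra hn
  refine hn (h.trick hO p h1 fun z hz cz => ⟨d, p, ?_, fun y hy f hv => hn ?_⟩)
  · exact (hD.commute_of hd hz (p.not_op hD h1 hz cz) fun f => h1 (h.pk_inj hO p hz f cz)).symm
  rw [p.cji_eq_mul hD hy f, il sd] at hv
  have fe := hD.fr_of_sameC hd he hy s f
  obtain ⟨m, lm, fm, em, o⟩ := hD.exists_o3 hc hy hd f.symm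
  rw [hD.cms hd hy f] at fm em
  have s1 := h.sameC_cm_l hd he hy s f
  have l1 := hD.ln_cm' hd hy f
  have l2 := hD.ln_cm' he hy fe
  have f2 := hD.fr_of_sameC l1.r l2.r lm.r s1 fm
  obtain ⟨n1, -, -⟩ := hD.nat o lm.r l1 fm
  obtain ⟨n2, f3, n3⟩ := hD.nat o lm.r l2 f2
  have hσ := hD.cj m lm.r y hy
  have m1 := hD.cj _ hv _ hσ
  have s2 := hD.sameC_cji s1 hσ
  rw [cji_mul (hD.sq _ hσ), n1, n2, em] at m1
  rw [n1, n2, em] at s2
  have hb := hD.cm_mem l2.r lm.r f2
  generalize cm (cm e y) m = b at *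
  have se := hD.sq e he
  have q : Pk D (e * b) e := ⟨he, by rwa [il se], by rw [il se]; exact s.symm.trans s2⟩
  have := h.pk_inj hO q hy fe (commute_of_cji (q.sq hD) (by
    have := q.cji_eq_mul hD hy fe
    rw [il se, n3, hD.sq _ l2.r] at this
    exact (eq_of_mul_eq_one (hD.sq y hy) this).symm))
  rwa [(s.commute he).eq, eq_of_mul_eq_one se this]

end Nd

end Cfsg.Lib.Class.RI
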