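import Cfsg.Agent.RI5.Defs

/-!
# The root involution theorem: commutators of members of two sets `E_d`, `E_y`
-/

set_option autoImplicit false

namespace Cfsg.Lib.Class.RI

open Subgroup Cfsg.Lib.Local Cfsg.Agent
open scoped commutatorElement

universe u

variable {G : Type u} [Group G] {D : Set G}

theorem O3.swap {a x : G} (h : O3 a x) (ha : a * a = 1) : a * x * a * a * (a * x * a) = x := by
  calc a * x * a * a * (a * x * a) = a * (x * a * x) * a := by simp only [mul_assoc, il ha]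
    _ = x := by rw [← h.2, cji_cji ha]

theorem O3.swap' {a x : G} (h : O3 a x) (ha : a * a = 1) (hx : x * x = 1) :
    a * x * a * x * (a * x * a) = a := cji_swap (cji_sq ha hx) (h.swap ha)

theorem O3.cj {a x : G} (h : O3 a x) (g : G) : O3 (g * a * g⁻¹) (g * x * g⁻¹) :=
  ⟨h.1.cj g, by
    calc g * a * g⁻¹ * (g * x * g⁻¹) * (g * a * g⁻¹) = g * (a * x * a) * g⁻¹ := by group
      _ = _ := by rw [h.2]; group⟩

theorem mem_MM {d y : G} (l : Ln D d y) : y ∈ MM D d := subset_closure l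

theorem mem_EE {d e : G} (he : e ∈ D) (s : SameC D d e) : e ∈ EE D d := subset_closure ⟨he, s⟩

theorem EE_congr {a b : G} (s : SameC D a b) : EE D a = EE D b := by rw [EE, Eb_congr s]

theorem commute_EE {d e e' : G} (he : e ∈ EE D d) (he' : e' ∈ EE D d) : Commute e e' :=
  (commute_of_mem_closure he' fun s hs =>
    (commute_of_mem_EE he hs.1 (hs.2.commute hs.1)).symm).symm

theorem commute_EE_MM {d e y : G} (he : e ∈ EE D d) (hy : y ∈ MM D d) : Commute e y :=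
  (commute_of_mem_closure hy fun _ l => (commute_of_mem_EE he l.r l.c).symm).symm

theorem commute_EE_EE {a b e f : G} (hb : b ∈ D) (c : Commute a b) (he : e ∈ EE D a)
    (hf : f ∈ EE D b) : Commute e f :=
  commute_of_mem_closure he fun s hs =>
    (commute_of_mem_EE hf hs.1 ((hs.2 b hb).1 c).symm).symm

namespace Rt

variable (hD : Rt D)
include hD

theorem sq_EE {d e : G} (he : e ∈ EE D d) : e * e = 1 := by
  induction he using closure_induction with
  | mem x hx => exact hD.sq x hx.1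
  | one => exact mul_one 1
  | mul x y hx hy h1 h2 => exact sq_mul_of_commute h1 h2 (commute_EE hx hy)
  | inv x _ h => rw [inv_of_sq h, h]

theorem op_of_sameC' {a b x : G} (ha : a ∈ D) (hb : b ∈ D) (hx : x ∈ D) (s : SameC D a b)
    (o : Op a x) : Op b x := (hD.sameA_of_sameC ha hb s x hx).1 o

theorem fr_of_sameC' {d y y' : G} (hd : d ∈ D) (hy : y ∈ D) (hy' : y' ∈ D) (s : SameC D y y')
    (f : Fr d y) : Fr d y' := (hD.fr_of_sameC hy hy' hd s f.symm).symm

theorem not_sameC_cm' {a b : G} (ha : a ∈ D) (hb : b ∈ D) (f : Fr a b) : ¬ SameC D (cm a b) b :=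
  hD.cms ha hb f ▸ hD.not_sameC_cm hb ha f.symm

/-- two points on lines through `d` which do not commute -/
theorem fr_of_ln' {d u v : G} (lu : Ln D d u) (lv : Ln D d v) (n : ¬ Commute u v) : Fr u v :=
  hD.fr_of lu.r lv.r n (hD.not_op_of_ln lu lv)

variable [Finite G] (hc : Cls D)
include hc

theorem sameC_of_mem_EE {d z : G} (hd : d ∈ D) (hz : z ∈ D) (h : z ∈ EE D d) : SameC D d z :=
  hD.sameC_of_le hc hd hz fun _ hw c => commute_of_mem_EE h hw c

theorem comm_mem_EE {d u v : G} (hu : u ∈ MM D d) (hv : v ∈ MM D d) : ⁅u, v⁆ ∈ EE D d := by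
  refine commutator_closure_le (N := EE D d) (fun a la b lb => ?_)
    (fun n hn a la => commute_of_mem_EE hn la.r la.c) (commutator_mem_commutator hu hv)
  rw [commutator_eq_cm (hD.sq a la.r) (hD.sq b lb.r)]
  by_cases c : Commute a b
  · rw [(cm_eq_one_iff (hD.sq a la.r) (hD.sq b lb.r)).2 c]; exact one_mem _
  · have f := hD.fr_of_ln' la lb c
    exact mem_EE (hD.cm_mem la.r lb.r f) (hD.sameC_cm hc la lb f)

theorem exists_o3 {a b : G} (ha : a ∈ D) (hb : b ∈ D) (f : Fr a b) :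
    ∃ m, Ln D b m ∧ Fr (cm a b) m ∧ cm (cm a b) m = b ∧ O3 a m := by
  have l := hD.ln_cm' ha hb f
  obtain ⟨m, hm, fm, em⟩ := hD.exists_cm' hc l.symm (hD.not_sameC_cm' ha hb f)
  exact ⟨m, em ▸ (hD.ln_cm' l.r hm fm).symm, fm, em,
    hD.o3 hb ha hm f.symm (hD.cms ha hb f) fm em⟩

theorem surj {a b c : G} (hb : b ∈ D) (f : Fr a b) (l : Ln D a c) (s : SameC D (cm a b) c) :
    ∃ b' ∈ D, SameC D b b' ∧ Fr a b' ∧ cm a b' = c := by
  obtain ⟨m, lm, fm, em, o⟩ := hD.exists_o3 hc l.l hb f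
  have l0 := hD.ln_cm l.l hb f
  have fc := hD.fr_of_sameC l0.r l.r lm.r s fm
  obtain ⟨n1, -, -⟩ := hD.nat o lm.r l0 fm
  obtain ⟨n2, f2, n3⟩ := hD.nat o lm.r l fc
  have s1 := hD.sameC_cji s (hD.cj m lm.r a l.l)
  rw [n1, n2, em] at s1
  have h1 := hD.cm_mem l.r lm.r fc
  exact ⟨_, h1, s1, f2.symm, (hD.cms h1 l.l f2).trans n3⟩

/-- A path `m, p, g` around `d`. -/
theorem path {d m g : G} (l : Ln D d m) (hg : g ∈ D) (f : Fr d g) (f' : Fr m (cm d g)) :
    ∃ g' ∈ D, SameC D g g' ∧ O3 g' m ∧ Fr (cm m (cm d g)) g' ∧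
      cm (cm m (cm d g)) g' = cm d g := by
  have lp := hD.ln_cm l.l hg f
  have lp' := hD.ln_cm' l.l hg f
  have s := hD.sameC_cm hc l lp f'
  have l2 := hD.ln_cm' l.r lp.r f'
  have f2 := hD.fr_of_sameC l.l l2.r hg s f
  obtain ⟨g', hg', s', f3, e⟩ := hD.surj hc hg f2 l2.symm (hD.sameC_cm hc l2 lp'.symm f2).symm
  exact ⟨g', hg', s', hD.o3 l2.r hg' l.r f3 e f'.symm (hD.cms l.r lp.r f'), f3, e⟩

theorem op_of_path {d m g : G} (l : Ln D d m) (hg : g ∈ D) (f : Fr d g) (f' : Fr m (cm d g)) :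
    Op g m := by
  obtain ⟨g', hg', s, o, -⟩ := hD.path hc l hg f f'
  exact hD.op_of_sameC' hg' hg l.r s.symm o.1

end Rt

variable [Finite G]

namespace Nd

variable (h : Nd D) [Gate.S1175.{u}]
include h

theorem exists_ln_nc {d z : G} (hd : d ∈ D) (hz : z ∈ D) (c : Commute d z) (n : ¬ SameC D d z) :
    ∃ g, Ln D d g ∧ Fr g z := by
  by_contra hh
  push Not at hh
  exact n (h.sameC_of_commute_ln hd hz c fun w l =>
    (h.rt.commute_of l.r hz (h.rt.L0' l.symm hz c) (hh w l)).symm)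

/-- The commutators of the members of `E_d` with `y` lie in one set `E_p`. -/
theorem sameC_cm_l {d e y : G} (hd : d ∈ D) (he : e ∈ D) (hy : y ∈ D) (s : SameC D d e)
    (f : Fr d y) : SameC D (cm d y) (cm e y) := by
  have hD := h.rt
  have hc := h.cls
  by_contra hn
  have fe := hD.fr_of_sameC hd he hy s f
  have l1 := hD.ln_cm hd hy f
  have l2 := hD.ln_cm' hd hy f
  have l3 := hD.ln_cm he hy fe
  have l4 := hD.ln_cm' he hy fe
  have sy := hD.sq y hy
  have cpe : Commute e (cm d y) := (s _ l1.r).1 l1.c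
  have c1 : Commute (cm d y) (cm e y) := commute_cm cpe.symm l2.c.symm
  obtain ⟨g, lg, fg⟩ := h.exists_ln_nc l1.r l3.r c1 hn
  have m1 : cm e y ∈ MM D (cm d y) := by
    rw [← hD.cms he hy fe, cm_eq_mul_cj y e]
    have := hD.ln_cji l2.symm he
    rw [cji_eq cpe (hD.sq e he)] at this
    exact mul_mem (mem_MM l2.symm) (mem_MM this)
  have k : ∀ w ∈ D, Commute (cm d y) w → Commute d w → Commute (cm e y) w := fun w hw a1 a2 => by
    have a3 : Commute (y * d * y) w := by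
      rw [cj_eq_mul_cm y (hD.sq d hd)]; exact a2.mul_left a1
    rw [cm_eq_mul_cj e y]
    exact ((s w hw).1 a2).mul_left ((hD.sameC_cji s hy w hw).1 a3)
  have l5 := hD.ln_cm lg.r l3.r fg
  have l6 := hD.ln_cm' lg.r l3.r fg
  have s3 : SameC D (cm d y) (cm g (cm e y)) := hD.sameC_of_mem_EE hc l1.r l5.r (by
    rw [← commutator_eq_cm (hD.sq g lg.r) (hD.sq _ l3.r)]
    exact hD.comm_mem_EE hc (mem_MM lg) m1)
  have fgd : Fr g d := hD.fr_of_ln' lg l1.symm fun c =>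
    hD.ncf lg.r l3.r fg (k g lg.r lg.c c.symm).symm
  have s1 := hD.sameC_cm hc lg l1.symm fgd
  have l7 := hD.ln_cm lg.r hd fgd
  have l8 := hD.ln_cm' lg.r hd fgd
  obtain ⟨y₁, hy₁, f1, e1⟩ := hD.exists_cm' hc l5.symm (hD.not_sameC_cm lg.r l3.r fg)
  have o1 := hD.o3 l5.r hy₁ l3.r f1 e1 fg rfl
  have l9 : Ln D g y₁ := e1 ▸ (hD.ln_cm' l5.r hy₁ f1).symm
  have f2 := hD.fr_of_sameC l5.r l7.r hy₁ (s3.symm.trans s1) f1
  obtain ⟨y₂, hy₂, s2, f3, e2⟩ := hD.surj hc hy₁ f2 l7.symm (hD.sameC_cm hc l7 l9 f2).symm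
  have o2 := hD.o3 l7.r hy₂ hd f3 e2 fgd rfl
  obtain ⟨n1, -, -⟩ := hD.nat o1.symm hy₁ l6 f1
  obtain ⟨n2, -, -⟩ := hD.nat o2.symm hy₂ l8 f3
  have n3 := o1.symm.swap (hD.sq _ l3.r)
  have n4 := o2.symm.swap' (hD.sq d hd) (hD.sq _ hy₂)
  have r1 := hD.cj y₁ hy₁ _ l3.r
  have r2 := hD.cj y₂ hy₂ d hd
  rw [e1] at n1
  rw [e2] at n2
  have n5 := cji_swap (hD.sq _ r2) n2
  generalize cm e y * y₁ * cm e y = ρ at *
  generalize d * y₂ * d = σ at *
  have k2 : ∀ w ∈ D, Commute (cm d y) w → Commute (cm e y) w →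
      Commute (cm d y) (σ * (ρ * w * ρ) * σ) ∧ Commute d (σ * (ρ * w * ρ) * σ) := by
    intro w hw a1 a2
    have m2 := hD.cj w hw ρ r1
    have a3 := commute_cji ((s3 w hw).1 a1) (hD.sq ρ r1)
    have a4 := commute_cji a2 (hD.sq ρ r1)
    rw [n1] at a3
    rw [n3] at a4
    have a5 := commute_cji a3 (hD.sq σ r2)
    have a6 := commute_cji ((s2 _ m2).1 a4) (hD.sq σ r2)
    rw [n5] at a5
    rw [n4] at a6
    exact ⟨(s1 _ (hD.cj _ m2 σ r2)).2 a5, a6⟩
  let T : {w // w ∈ D ∧ Commute (cm d y) w ∧ Commute (cm e y) w} →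
      {w // w ∈ D ∧ Commute (cm d y) w ∧ Commute (cm e y) w} := fun w =>
    ⟨σ * (ρ * w * ρ) * σ, hD.cj _ (hD.cj _ w.2.1 ρ r1) σ r2, (k2 _ w.2.1 w.2.2.1 w.2.2.2).1,
      k _ (hD.cj _ (hD.cj _ w.2.1 ρ r1) σ r2) (k2 _ w.2.1 w.2.2.1 w.2.2.2).1
        (k2 _ w.2.1 w.2.2.1 w.2.2.2).2⟩
  have hT : Function.Injective T := fun w w' e => Subtype.ext (by
    have := congrArg Subtype.val e
    simpa [T] using this)
  obtain ⟨w, e⟩ := Finite.surjective_of_injective hT ⟨y, hy, l2.c.symm, l4.c.symm⟩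
  have := (k2 _ w.2.1 w.2.2.1 w.2.2.2).2
  rw [show σ * (ρ * w * ρ) * σ = y from congrArg Subtype.val e] at this
  exact hD.ncf hd hy f this

theorem sameC_cm_r {d y y' : G} (hd : d ∈ D) (hy : y ∈ D) (hy' : y' ∈ D) (s : SameC D y y')
    (f : Fr d y) : SameC D (cm d y) (cm d y') := by
  rw [← h.rt.cms hd hy f, ← h.rt.cms hd hy' (h.rt.fr_of_sameC' hd hy hy' s f)]
  exact h.sameC_cm_l hy hy' hd s f.symm

theorem sameC_cm2 {d e y y' : G} (hd : d ∈ D) (he : e ∈ D) (hy : y ∈ D) (hy' : y' ∈ D)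
    (s : SameC D d e) (s' : SameC D y y') (f : Fr d y) : SameC D (cm d y) (cm e y') :=
  (h.sameC_cm_l hd he hy s f).trans
    (h.sameC_cm_r he hy hy' s' (h.rt.fr_of_sameC hd he hy s f))

theorem ln_of_mem_MM (hE : HE D) {d g : G} (hd : d ∈ D) (hg : g ∈ D) (hm : g ∈ MM D d)
    (hne : g ≠ d) : Ln D d g :=
  h.ln_of_mem_Wd hE hd (h.rt.mem_Wd hg
    (closure_mono (fun _ l => h.rt.mem_Wd_of_ln l) hm)) hne

end Nd

namespace HE

variable (hE : HE D) (hD : Rt D) (hc : Cls D)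
include hE hD hc

theorem ln_congr {d d' u u' : G} (l : Ln D d u) (n : ¬ SameC D d u) (hd' : d' ∈ D) (hu' : u' ∈ D)
    (s : SameC D d d') (s' : SameC D u u') : Ln D d' u' :=
  (hD.ln_of_sameC hc hE hu' s' (hD.ln_of_sameC hc hE hd' s l
    (by rintro rfl; exact n s)).symm (by rintro rfl; exact n (s.trans s'.symm))).symm

theorem eq_of_commute_mul {d e y : G} (hd : d ∈ D) (he : e ∈ D) (hy : y ∈ D) (s : SameC D d e)
    (n : ¬ Commute d y) (c : Commute (d * e) y) : d = e := by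
  by_contra hne
  have l := hD.ln_of_hE hE hd he s hne
  exact n ((hD.sameC_third hc l s y hy).2 c)

theorem eq_one_of_commute {d e y : G} (he : e ∈ EE D d) (hy : y ∈ D) (n : ¬ Commute d y)
    (c : Commute e y) : e = 1 :=
  ((hE.mem_EE hD hc).1 he).resolve_left fun k => n ((k.2 y hy).2 c)

theorem cm_inj {d e y : G} (hd : d ∈ D) (he : e ∈ D) (hy : y ∈ D) (s : SameC D d e) (f : Fr d y)
    (e1 : cm y d = cm y e) : d = e := by
  refine hE.eq_of_commute_mul hD hc hd he hy s (hD.ncf hd hy f) ?_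
  rw [cm_eq_mul_cj, cm_eq_mul_cj] at e1
  have e2 := mul_left_cancel e1
  have sd := hD.sq d hd
  have se := hD.sq e he
  refine commute_of_cji (sq_mul_of_commute sd se (s.commute he)) ?_
  nth_rewrite 2 [(s.commute he).eq]
  calc d * e * y * (e * d) = d * (e * y * e) * d := by simp only [mul_assoc]
    _ = y := by rw [← e2, cji_cji sd]

theorem surj {a b c : G} (ha : a ∈ D) (hb : b ∈ D) (hcD : c ∈ D) (f : Fr a b)
    (s : SameC D (cm a b) c) : ∃ b' ∈ D, SameC D b b' ∧ Fr a b' ∧ cm a b' = c :=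
  hD.surj hc hb f (hE.ln_congr hD hc (hD.ln_cm ha hb f)
    (fun k => hD.not_sameC_cm ha hb f k.symm) ha hcD (SameC.refl D a) s) s

theorem EE_le_MM {d u : G} (l : Ln D d u) (n : ¬ SameC D d u) : EE D u ≤ MM D d :=
  (closure_le _).2 fun _ k => mem_MM (hE.ln_congr hD hc l n l.l k.1 (SameC.refl D d) k.2)

theorem MM_congr {d d' : G} (hd : d ∈ D) (hd' : d' ∈ D) (s : SameC D d d') :
    MM D d = MM D d' := by
  have k : ∀ d d' : G, d' ∈ D → SameC D d d' → MM D d ≤ MM D d' := fun d d' hd' s => by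
    refine (closure_le _).2 fun y l => ?_
    by_cases e : y = d'
    · subst e
      have := mul_mem (mem_MM (Ln.symm l)) (mem_MM (hD.ln_third (Ln.symm l)))
      rwa [(Ln.c l).symm.eq, il (hD.sq d (Ln.l l))] at this
    · exact mem_MM (hD.ln_of_sameC hc hE hd' s l e)
  exact le_antisymm (k d d' hd' s) (k d' d hd s.symm)

end HE

theorem Rt.self_mem_MM (hD : Rt D) {d w : G} (l : Ln D d w) : d ∈ MM D d := by
  have := mul_mem (mem_MM (hD.ln_third l)) (mem_MM l)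
  rwa [mul_assoc, hD.sq w l.r, mul_one] at this

theorem HE.EE_le_MM' (hE : HE D) (hD : Rt D) {d w : G} (l : Ln D d w) : EE D d ≤ MM D d := by
  refine (closure_le _).2 fun e k => ?_
  by_cases e1 : d = e
  · exact e1 ▸ hD.self_mem_MM l
  · exact mem_MM (hD.ln_of_hE hE l.l k.1 k.2 e1)

omit [Finite G] in
theorem fx_of_commute {g a : G} (c : Commute g a) : Fx D g a := by
  rw [Fx, cj_eq_of_commute c]; exact SameC.refl D a

namespace Nd

variable (h : Nd D)
include h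

theorem sameC_cj {a b : G} (s : SameC D a b) (g : G) : SameC D (g * a * g⁻¹) (g * b * g⁻¹) :=
  s.cj fun _ hd => h.cj' hd g

theorem sameC_cj_iff {a b : G} (g : G) : SameC D (g * a * g⁻¹) (g * b * g⁻¹) ↔ SameC D a b :=
  ⟨fun s => by simpa [mul_assoc] using h.sameC_cj s g⁻¹, fun s => h.sameC_cj s g⟩

theorem ln_cj {a b : G} (l : Ln D a b) (g : G) : Ln D (g * a * g⁻¹) (g * b * g⁻¹) :=
  h.rt.ln_cj l fun _ hd => h.cj hd g

theorem cj_mem_EE {a e : G} (he : e ∈ EE D a) (g : G) : g * e * g⁻¹ ∈ EE D (g * a * g⁻¹) := by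
  have : (EE D a).map (MulAut.conj g).toMonoidHom ≤ EE D (g * a * g⁻¹) := by
    rw [MonoidHom.map_closure]
    refine closure_mono ?_
    rintro _ ⟨t, ht, rfl⟩
    exact ⟨h.cj ht.1 g, h.sameC_cj ht.2 g⟩
  exact this ⟨e, he, rfl⟩

theorem cj_mem_MM {a e : G} (he : e ∈ MM D a) (g : G) : g * e * g⁻¹ ∈ MM D (g * a * g⁻¹) := by
  have : (MM D a).map (MulAut.conj g).toMonoidHom ≤ MM D (g * a * g⁻¹) := by
    rw [MonoidHom.map_closure]
    refine closure_mono ?_
    rintro _ ⟨t, ht, rfl⟩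
    exact h.ln_cj ht g
  exact this ⟨e, he, rfl⟩

theorem fx_mul {g k a : G} (h1 : Fx D g a) (h2 : Fx D k a) : Fx D (g * k) a := by
  have := SameC.trans h1 (h.sameC_cj h2 g)
  simpa only [Fx, mul_assoc, mul_inv_rev] using this

theorem fx_inv {g a : G} (h1 : Fx D g a) : Fx D g⁻¹ a := by
  have := (h.sameC_cj h1 g⁻¹).symm
  simpa [Fx, mul_assoc] using this

theorem fx_congr {g a b : G} (s : SameC D a b) (h1 : Fx D g a) : Fx D g b :=
  (s.symm.trans h1).trans (h.sameC_cj s g)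

theorem fx_cj {g a : G} (h1 : Fx D g a) (k : G) : Fx D (k * g * k⁻¹) (k * a * k⁻¹) := by
  have := h.sameC_cj h1 k
  simpa [Fx, mul_assoc] using this

/-- A member fixing a point commutes with it. -/
theorem commute_of_fx {r a : G} (hr : r ∈ D) (ha : a ∈ D) (h1 : Fx D r a) : Commute r a := by
  have hD := h.rt
  rw [Fx, hD.inv hr] at h1
  refine hD.commute_of hr ha (fun o => ?_) fun f => ?_
  · exact hD.nc ha (hD.cj a ha r hr) (o.cj_self (hD.sq r hr) (hD.sq a ha))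
      (h1.commute (hD.cj a ha r hr))
  · have l := hD.ln_cm ha hr f.symm
    refine hD.not_sameC_cm ha hr f.symm (hD.sameC_of_le h.cls ha l.r fun w hw c => ?_).symm
    have := (c.mul_left ((h1 w hw).1 c))
    rwa [← cm_eq_mul_cj] at this

end Nd

end Cfsg.Lib.Class.RI
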