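import Cfsg.Agent.RI5.Base

/-!
# The root involution theorem: good pairs, the case of rank at least three
-/

set_option autoImplicit false

namespace Cfsg.Lib.Class.RI

open Subgroup Cfsg.Lib.Local Cfsg.Agent

universe u

variable {G : Type u} [Group G] {D : Set G}

theorem Rt.cm_mem_MM (hD : Rt D) {p y d : G} (l : Ln D p y) (hd : d ∈ D) (c : Commute p d) :
    cm y d ∈ MM D p := by
  have := hD.ln_cji l hd
  rw [cji_eq c.symm (hD.sq d hd)] at this
  rw [cm_eq_mul_cj]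
  exact mul_mem (mem_MM l) (mem_MM this)

theorem Rt.commute_mul_of_cm (hD : Rt D) {d u v : G} (hd : d ∈ D) (hu : u ∈ D) (hv : v ∈ D)
    (f : Fr d u) (e : cm d u = cm d v) : Commute d (u * v) := by
  have k : ∀ y ∈ D, d * y * d = cm d y * y := fun y hy => by
    rw [cm, mul_assoc _ y y, hD.sq y hy, mul_one]
  refine commute_of_cji (hD.sq d hd) ?_
  rw [cji_mul (hD.sq d hd), k u hu, k v hv, ← e, ← (f.commute_r (hD.sq d hd) (hD.sq u hu)).eq,
    mul_assoc, il f.cm_sq]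

theorem commute_of_mul_r {g e y : G} (h1 : Commute (e * y) g) (h2 : Commute y g) :
    Commute e g := by
  have := h1.mul_left h2.inv_left
  rwa [mul_inv_cancel_right] at this

theorem commute_of_mul_l {g e y : G} (h1 : Commute (e * y) g) (h2 : Commute e g) :
    Commute y g := by
  have := h2.inv_left.mul_left h1
  rwa [inv_mul_cancel_left] at this

theorem onL_of_sameC {a u v : G} (hv : v ∈ D) (s : SameC D u v) : OnL D a u v :=
  ⟨1, one_mem _, v, ⟨hv, s⟩, (one_mul v).symm⟩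

theorem OnL.mul {a u v e : G} (h : OnL D a u v) (he : e ∈ EE D a) : OnL D a u (e * v) := by
  obtain ⟨f, hf, u', hu', rfl⟩ := h
  exact ⟨e * f, mul_mem he hf, u', hu', (mul_assoc _ _ _).symm⟩

theorem OnL.commute {a b u v : G} (h : OnL D a b u) (l : Ln D a v) (c : Commute u v) :
    Commute b v := by
  obtain ⟨e, he, b', hb', rfl⟩ := h
  exact (hb'.2 v l.r).2 (commute_of_mul_l c (commute_of_mem_EE he l.r l.c))

theorem Rt.good_symm (hD : Rt D) {a x : G} (g : Good D a x) : Good D x a := by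
  obtain ⟨b, l, f⟩ := g.ex
  exact ⟨l.l, g.op.symm, _, hD.step l g.r g.op f⟩

variable [Finite G]

namespace Nd

variable (h : Nd D)
include h

theorem good_symm {a x : G} (g : Good D a x) : Good D x a := h.rt.good_symm g

theorem onL_cj {a u v : G} (o : OnL D a u v) (g : G) :
    OnL D (g * a * g⁻¹) (g * u * g⁻¹) (g * v * g⁻¹) := by
  obtain ⟨e, he, u', hu', rfl⟩ := o
  exact ⟨_, h.cj_mem_EE he g, _, ⟨h.cj hu'.1 g, h.sameC_cj hu'.2 g⟩, by group⟩

variable [Gate.S1175.{u}] (hE : HE D)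
include hE

theorem cl_of_good {a x : G} (g : Good D a x) : Cl D a x := by
  have hD := h.rt
  have hc := h.cls
  have k : ∀ {a x : G}, Good D a x → ∀ a' ∈ Eb D a, ∃ x' ∈ Eb D x, O3 a' x' := by
    intro a x g a' ha'
    obtain ⟨b, l, f⟩ := g.ex
    have lc := hD.ln_cm l.r g.r f
    have fc : Fr a (cm b x) := (hD.cms l.r g.r f ▸ (hD.step l g.r g.op f).2).symm
    obtain ⟨c', hc', s, f1, e1⟩ := hE.surj hD hc ha'.1 lc.r l.r
      (hD.fr_of_sameC l.l ha'.1 lc.r ha'.2 fc)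
      ((h.sameC_cm_l l.l ha'.1 lc.r ha'.2 fc).symm.trans (hD.sameC_cm hc l.symm lc fc).symm)
    obtain ⟨x', hx', s', f2, e2⟩ := hE.surj hD hc l.r g.r hc' f s
    exact ⟨x', ⟨hx', s'⟩,
      (hD.o3 l.r hx' ha'.1 f2 e2 f1.symm ((hD.cms ha'.1 hc' f1).trans e1)).symm⟩
  exact ⟨(h.good_symm g).r, g.r, k g,
    fun x' hx' => (k (h.good_symm g) x' hx').imp fun _ t => ⟨t.1, t.2.symm⟩⟩

theorem good_of_near {d x p : G} (hd : d ∈ D) (hx : x ∈ D) (hp : p ∈ D) (o : Op d x)
    (c : Commute p d) (n : ¬ Op p x) : Good D d x := by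
  have hD := h.rt
  by_cases cx : Commute p x
  · obtain ⟨y, ly, fy⟩ := h.exists_ln_nc hp hd c fun s => hD.nc hd hx o ((s x hx).1 cx)
    have l1 := hD.ln_cm' ly.r hd fy
    have l2 := h.ln_of_mem_MM hE hp l1.r (hD.cm_mem_MM ly hd c) fun e =>
      hD.L0 (e ▸ l1) hx o cx
    exact ⟨hx, o, _, l1, hD.fr_of l1.r hx (hD.L0 l1 hx o) (hD.L0' l2.symm hx cx)⟩
  · have f := hD.fr_of hp hx cx n
    have l1 := hD.ln_cm' hp hx f
    exact h.good_symm ⟨hd, o.symm, _, l1,
      hD.fr_of l1.r hd (hD.L0 l1 hd o.symm) (hD.L0' (hD.ln_cm hp hx f).symm hd c)⟩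

theorem commute_ln_of_R2 (r : R2 D) {d w : G} (hd : d ∈ D) (hw : w ∈ D) (c : Commute d w)
    (hne : d ≠ w) : Ln D d w := by
  have hD := h.rt
  have hc := h.cls
  by_contra hn
  refine hn (hD.ln_of_hE hE hd hw (h.sameC_of_commute_ln hd hw c fun u l => ?_) hne)
  by_contra n
  have f := hD.fr_of hw l.r n fun o => hD.L0' l.symm hw c o.symm
  have l1 := hD.ln_cm hw l.r f
  obtain ⟨e, he, d', hd', e1⟩ := r u d _ l.symm (hD.ln_cm' hw l.r f)
    (fun s => n ((s w hw).2 c).symm) (fun s => hD.not_sameC_cm' hw l.r f s.symm)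
    (commute_cm c l.c)
  obtain rfl := hE.eq_one_of_commute hD hc he hw (fun k => n k.symm)
    (commute_of_mul_r (e1 ▸ l1.c.symm) ((hd'.2 w hw).1 c))
  rw [one_mul] at e1
  exact hn (hD.ln_of_sameC hc hE hd (e1 ▸ hd'.2.symm) l1.symm hne.symm)

theorem exists_plane (n : ¬ R2 D) : ∀ a ∈ D, ∃ u v, Ln D a u ∧ Ln D a v ∧ Ln D u v ∧
    ¬ SameC D a u ∧ ¬ SameC D a v ∧ ¬ OnL D a u v := by
  have hD := h.rt
  have hc := h.cls
  obtain ⟨d, u, v, lu, lv, luv, su, sv, o⟩ : ∃ d u v, Ln D d u ∧ Ln D d v ∧ Ln D u v ∧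
      ¬ SameC D d u ∧ ¬ SameC D d v ∧ ¬ OnL D d u v := by
    rw [R2] at n
    push Not at n
    obtain ⟨d, u, v, lu, lv, su, sv, c, o⟩ := n
    by_cases luv : Ln D u v
    · exact ⟨d, u, v, lu, lv, luv, su, sv, o⟩
    have ne : u ≠ v := by rintro rfl; exact o (onL_of_sameC lu.r (SameC.refl D u))
    obtain ⟨m, hm, f, e⟩ := hD.exists_cm' hc lu su
    have lm : Ln D m u := e ▸ hD.ln_cm' lu.l hm f
    have nc : ¬ Commute m v := fun k => by
      have l1 := hD.ln_cji lv hm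
      rw [cji_eq k (hD.sq m hm), cj_eq_mul_cm m (hD.sq d lu.l), e] at l1
      have l2 := h.ln_of_mem_MM hE lu.l l1.m
        (mul_mem (mul_mem (hD.self_mem_MM lu) (mem_MM lu)) (mem_MM lv)) fun e' =>
          ne (eq_of_mul_eq_one (hD.sq u lu.r) (by rw [mul_assoc] at e'; exact mul_eq_left.1 e'))
      refine luv ⟨lu.r, lv.r, ne, c, ?_⟩
      have := l2.m
      rwa [mul_assoc, il (hD.sq d lu.l)] at this
    have fv := hD.fr_of hm lv.r nc (hD.L0' lm lv.r c)
    have l3 := hD.ln_cm' hm lv.r fv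
    have sw : ¬ SameC D u (cm m v) := fun s =>
      luv (hD.ln_of_sameC hc hE lu.r s.symm l3.symm ne.symm)
    refine ⟨m, u, cm m v, lm, hD.ln_cm hm lv.r fv,
      h.ln_of_mem_MM hE lu.r l3.r (hD.cm_mem_MM lm.symm lv.r c) fun e' =>
        sw (e'.symm ▸ SameC.refl D u),
      fun s => hD.not_sameC_cm' lu.l hm f (e.symm ▸ s.symm),
      fun s => hD.not_sameC_cm hm lv.r fv s.symm, ?_⟩
    rintro ⟨m', hm', u', hu', e1⟩
    obtain rfl := hE.eq_one_of_commute hD hc hm' lv.r nc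
      (commute_of_mul_r (e1 ▸ l3.c.symm) ((hu'.2 v lv.r).1 c))
    rw [one_mul] at e1
    exact sw (e1 ▸ hu'.2)
  intro a ha
  obtain ⟨g, -, rfl⟩ := hc d lu.l a ha
  refine ⟨_, _, h.ln_cj lu g, h.ln_cj lv g, h.ln_cj luv g, fun s => su ((h.sameC_cj_iff g).1 s),
    fun s => sv ((h.sameC_cj_iff g).1 s), fun k => o ?_⟩
  simpa [mul_assoc] using h.onL_cj k g⁻¹

theorem onL_trans {a b u v : G} (l : Ln D a b) (n : ¬ SameC D a b) (h1 : OnL D a b u)
    (h2 : OnL D a b v) : OnL D a u v := by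
  have hD := h.rt
  have hc := h.cls
  obtain ⟨e, he, b1, hb1, rfl⟩ := h1
  obtain ⟨e', he', b2, hb2, rfl⟩ := h2
  have s := hb1.2.symm.trans hb2.2
  rcases (hE.mem_EE hD hc).1 he with he | rfl
  · have l1 := hE.ln_congr hD hc l n he.1 hb1.1 he.2 hb1.2
    obtain ⟨m, hm, f, e1⟩ := hD.exists_cm' hc l1.symm
      fun k => n ((he.2.trans k.symm).trans hb1.2.symm)
    have f2 := hD.fr_of_sameC hb1.1 hb2.1 hm s f
    have l2 := hD.ln_cm hb2.1 hm f2
    have s1 := hD.sameC_cji s hm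
    rw [cj_eq_mul_cm m (hD.sq _ hb1.1), cj_eq_mul_cm m (hD.sq _ hb2.1), e1, ← l1.c.eq] at s1
    have := (onL_of_sameC (a := a) l2.m s1).mul (mul_mem he' (mem_EE l2.r
      (he.2.trans (e1 ▸ h.sameC_cm_l hb1.1 hb2.1 hm s f))))
    rwa [l2.c.eq, mul_assoc, il f2.cm_sq] at this
  · rw [one_mul]
    exact (onL_of_sameC hb2.1 s).mul he'

/-- the point `b` commutes only with the points of its line through `a` -/
theorem onL_of_bad {a b d x : G} (l : Ln D a d) (lb : Ln D a b) (hx : x ∈ D) (o : Op a x)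
    (f : Fr b x) (od : Op d x) (bad : ¬ Good D d x) {u : G} (lu : Ln D a u) (su : ¬ SameC D a u)
    (cu : Commute u b) : OnL D a b u := by
  have hD := h.rt
  have hc := h.cls
  have bad1 : ∀ p ∈ D, Commute p d → Op p x := fun p hp c => by
    by_contra n; exact bad (h.good_of_near hE l.r hx hp od c n)
  have bad2 : ∀ p ∈ D, Commute p x → ¬ Commute a p := fun p hp c c' =>
    bad (h.good_symm (h.good_of_near hE hx l.r hp od.symm c fun o' => hD.L0' l.symm hp c' o'.symm))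
  have lc := hD.ln_cm lb.r hx f
  have lx := hD.ln_cm' lb.r hx f
  have fc : Fr a (cm b x) := (hD.cms lb.r hx f ▸ (hD.step lb hx o f).2).symm
  have ec := hD.cms lb.r hx f
  generalize cm b x = c at lc lx fc ec
  have sb := hD.sameC_cm hc lb.symm lc fc
  have fd := hD.fr_of_ln' l lb fun k => f.not_op (bad1 b lb.r k.symm)
  have K : ∀ p ∈ D, Commute p d → ¬ Commute c p := fun p hp c1 c2 =>
    hD.L0' lx hp c2 (bad1 p hp c1).symm
  have P1 : ∀ u, Ln D a u → Commute u b → Commute c u → OnL D a b u := by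
    intro u lu cu cc
    by_contra no
    have l0 := hD.ln_cm lu.l lc.r fc
    have ne : ∀ b' ∈ D, SameC D b b' → b' ≠ u := by
      rintro _ hb' s rfl; exact no (onL_of_sameC hb' s)
    have l1 := hD.ln_cji lu lc.r
    rw [cji_eq cc (hD.sq c lc.r), cj_eq_mul_cm c (hD.sq a lu.l)] at l1
    have l2 := h.ln_of_mem_MM hE lu.l l1.m
      (mul_mem (mul_mem (hD.self_mem_MM lu) (mem_MM l0)) (mem_MM lu)) fun e' =>
        ne _ l0.r sb (eq_of_mul_eq_one (hD.sq _ l0.r)
          (by rw [mul_assoc] at e'; exact mul_eq_left.1 e'))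
    have l3 : Ln D (cm a c) u := ⟨l0.r, lu.r, ne _ l0.r sb, (sb u lu.r).1 cu.symm, by
      have := l2.m
      rwa [mul_assoc, il (hD.sq a lu.l)] at this⟩
    have fu := hD.fr_of_ln' l lu fun k => K u lu.r k.symm cc
    obtain ⟨b', hb', s, -, e⟩ := hE.surj hD hc l.r lb.r (hD.cm_mem l.r lu.r fu) fd
      ((hD.sameC_cm hc l lb fd).symm.trans (hD.sameC_cm hc l lu fu))
    have l4 := hE.ln_congr hD hc l3 (fun k => no (onL_of_sameC lu.r (sb.trans k))) hb' lu.r
      (sb.symm.trans s) (SameC.refl D u)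
    exact K _ l4.symm.m (hD.commute_mul_of_cm l.r lu.r hb' fu e.symm).symm
      (cc.mul_right ((s c lc.r).1 lc.c).symm)
  by_cases cc : Commute c u
  · exact P1 u lu cu cc
  have fu := hD.fr_of lc.r lu.r cc (hD.L0' lc.symm lu.r cu.symm)
  have l1 := hD.ln_cm lc.r lu.r fu
  have l2 := hD.ln_cm' lc.r lu.r fu
  by_cases sw : SameC D b (cm c u)
  · obtain ⟨a', ha', s, -, e⟩ := hE.surj hD hc lc.r lu.l l1.r fc.symm
      (hD.cms lu.l lc.r fc ▸ sb.symm.trans sw)
    have l3 := hE.ln_congr hD hc lu su ha' lu.r s (SameC.refl D u)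
    have m1 := mem_EE ha' s
    have l4 := h.ln_of_mem_MM hE lu.l l3.m (mul_mem (hE.EE_le_MM' hD lu m1) (mem_MM lu)) fun e' =>
      su (hD.sameC_of_mem_EE hc lu.l lu.r
        (((EE D a).mul_mem_cancel_left m1).1 (e'.symm ▸ mem_EE lu.l (SameC.refl D a))))
    have := (P1 _ l4 (((s b lb.r).1 lb.c).mul_left cu)
      (l3.c.eq ▸ hD.commute_mul_of_cm lc.r lu.r ha' fu e.symm)).mul m1
    rwa [il (hD.sq a' ha')] at this
  · exfalso
    have l3 := h.ln_of_mem_MM hE lb.r l1.r (hD.cm_mem_MM lc lu.r cu.symm) fun e' =>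
      sw (e'.symm ▸ SameC.refl D b)
    have ca : Commute a (cm c u) := by
      by_contra k
      refine fc.symm.not_op (hD.op_of_path hc lu.symm lc.r fu.symm ?_)
      rw [hD.cms lc.r lu.r fu]
      exact hD.fr_of_ln' lu.symm l2 k
    have fw := hD.fr_of_ln' lx.symm l1 fun k => bad2 _ l1.r k.symm ca
    obtain ⟨b', hb', s, -, e⟩ := hE.surj hD hc hx lb.r (hD.cm_mem hx l1.r fw) f.symm
      (ec.symm ▸ hD.sameC_cm hc lx.symm l1 fw)
    have l4 := hE.ln_congr hD hc l3 sw hb' l1.r s (SameC.refl D _)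
    exact bad2 _ l4.symm.m (hD.commute_mul_of_cm hx l1.r hb' fw e.symm).symm
      (ca.mul_right ((s a lu.l).1 lb.c.symm).symm)

theorem good_of_not_R2 (n : ¬ R2 D) {a x : G} (ha : a ∈ D) (hx : x ∈ D) (o : Op a x) :
    Good D a x := by
  have hD := h.rt
  have hc := h.cls
  have e := h.ec hx ha
  clear ha
  induction e with
  | refl => exact absurd rfl o.1
  | @tail a d _ l ih =>
    by_contra bad
    have oa : Op a x := by
      by_contra k; exact bad (h.good_of_near hE l.r hx l.l o l.c k)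
    obtain ⟨b, lb, f⟩ := (ih oa).ex
    have cl := fun {u} => h.onL_of_bad hE l lb hx oa f o bad (u := u)
    have sb : ¬ SameC D a b := fun s => f.not_op (hD.op_of_sameC' l.l lb.r hx s oa)
    obtain ⟨u, v, lu, lv, luv, su, sv, no⟩ := h.exists_plane hE n a l.l
    have nu : ¬ Commute b u := fun c =>
      no (h.onL_trans hE lb sb (cl lu su c.symm)
        (cl lv sv ((cl lu su c.symm).commute lv luv.c).symm))
    have nv : ¬ Commute b v := fun c => nu ((cl lv sv c.symm).commute lu luv.c.symm)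
    have fu := hD.fr_of_ln' lb lu nu
    have fv := hD.fr_of_ln' lb lv nv
    obtain ⟨u', hu', s, f', e⟩ := hE.surj hD hc lb.r lu.r (hD.cm_mem lb.r lv.r fv) fu
      ((hD.sameC_cm hc lb lu fu).symm.trans (hD.sameC_cm hc lb lv fv))
    have l1 := hE.ln_congr hD hc luv (fun k => no (onL_of_sameC lv.r k)) hu' lv.r s (SameC.refl D v)
    have l2 := hE.ln_congr hD hc lu su l.l hu' (SameC.refl D a) s
    have s1 : ¬ SameC D a (u' * v) := fun k => by
      have := (onL_of_sameC (a := a) hu' s).mul (mem_EE l1.m k)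
      rw [l1.c.eq, mul_assoc, hD.sq u' hu', mul_one] at this
      exact no this
    have l3 := h.ln_of_mem_MM hE l.l l1.m (mul_mem (mem_MM l2) (mem_MM lv)) fun e' =>
      s1 (e'.symm ▸ SameC.refl D a)
    exact nu ((cl l3 s1 (hD.commute_mul_of_cm lb.r hu' lv.r f' e).symm).commute lu
      ((s.commute hu').symm.mul_left luv.c.symm))

end Nd

end Cfsg.Lib.Class.RI
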