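import Cfsg.Agent.RI5.Base
import Cfsg.Agent.S5044
import Cfsg.Agent.Class.QuadSL2
import Cfsg.Agent.Inst.S1175

/-!
# The root involution theorem: final assembly
-/

set_option autoImplicit false

namespace Cfsg.Lib.Class.RI

open Subgroup Cfsg.Lib.Chev.RankOne Cfsg.Lib.Chev.Core
open scoped commutatorElement MatrixGroups

universe u

/-- The structure of the non-degenerate classes. -/
def Core : Prop := ∀ (G : Type u) [Group G] [Finite G] (D : Set G), Nd D → pCore 2 G = ⊥ → HE D ∧ ((∀ a ∈ D, ∀ x ∈ D, Op a x → Cl D a x) ∨ ((∀ d ∈ D, Eb D d = {d}) ∧ ∀ d ∈ D, Nat.card (closure (commutingMembers D d)) ≤ 2 ^ 10))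

/-- Closed opposite pairs give `SL₂`-pairs of root subgroups. -/
def SLP : Prop := ∀ (G : Type u) [Group G] [Finite G] (D : Set G), Rt D → closure D = ⊤ → Cls D → HE D → ∀ a x, Cl D a x → IsRankOnePair (EE D a) (EE D x) ∧ ∃ (F : Type) (_ : Field F) (_ : Fintype F), Fintype.card F = Nat.card (EE D a) ∧ IsPSL2PairOver F (EE D a) (EE D x)

theorem psl2Pair_of_equiv {X : Type*} [Group X] {F K : Type*} [Field F] [Field K] (e : F ≃+* K)
    {A B : Subgroup X} (h : IsPSL2PairOver K A B) : IsPSL2PairOver F A B := by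
  obtain ⟨φ, -, h2, h3, h4⟩ := h
  let m : SL(2, F) →* SL(2, K) := Matrix.SpecialLinearGroup.map e.toRingHom
  have hi : Function.Injective m := fun g k hgk => by
    ext i j
    exact e.injective (congrArg (fun z : SL(2, K) => z i j) hgk)
  have hU : ∀ a, m (slU a) = slU (e a) := fun a => by
    ext i j
    change e (slU a i j) = _
    fin_cases i <;> fin_cases j <;> simp [slU]
  have hV : ∀ a, m (slV a) = slV (e a) := fun a => by
    ext i j
    change e (slV a i j) = _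
    fin_cases i <;> fin_cases j <;> simp [slV]
  have e1 : (upperUnipotentSL2 F).map m = upperUnipotentSL2 K := by
    ext g
    simp only [mem_map, mem_upperUnipotentSL2]
    exact ⟨by rintro ⟨_, ⟨a, rfl⟩, rfl⟩; exact ⟨_, hU a⟩,
      by rintro ⟨a, rfl⟩; exact ⟨_, ⟨e.symm a, rfl⟩, by rw [hU, e.apply_symm_apply]⟩⟩
  have e2 : (lowerUnipotentSL2 F).map m = lowerUnipotentSL2 K := by
    ext g
    simp only [mem_map, mem_lowerUnipotentSL2]
    exact ⟨by rintro ⟨_, ⟨a, rfl⟩, rfl⟩; exact ⟨_, hV a⟩,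
      by rintro ⟨a, rfl⟩; exact ⟨_, ⟨e.symm a, rfl⟩, by rw [hV, e.apply_symm_apply]⟩⟩
  have := isPSL2PairOver_of_hom (φ.comp m) fun g hg => mem_center_iff.2 fun k => hi (by
    rw [map_mul, map_mul]
    exact mem_center_iff.1 (h2 hg) _)
  rwa [← map_map, ← map_map, e1, e2, h3, h4] at this

variable {G : Type u} [Group G] {D : Set G}

/-- the conjugates of a root subgroup -/
def rootCls (D : Set G) (d : G) : Set (Subgroup G) := {A | ∃ g : G, A = conjBy (EE D d) g}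

theorem Rt.conjBy_EE (hD : Rt D) (ht : closure D = ⊤) (a g : G) :
    conjBy (EE D a) g = EE D (g * a * g⁻¹) := by
  rw [conjBy, MonoidHom.map_closure]
  congr 1
  ext e
  constructor
  · rintro ⟨t, h1, rfl⟩
    exact ⟨hD.cj_mem ht h1.1 g, h1.2.cj fun _ hd => hD.cj_mem' ht hd g⟩
  · rintro ⟨h1, h2⟩
    refine ⟨g⁻¹ * e * g, ⟨hD.cj_mem' ht h1 g, ?_⟩, by simp [mul_assoc]⟩
    simpa [mul_assoc] using h2.cj (g := g⁻¹) fun _ hd => hD.cj_mem' ht hd g⁻¹

theorem Rt.mem_rootCls (hD : Rt D) (ht : closure D = ⊤) (hc : Cls D) {d : G} (hd : d ∈ D)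
    {A : Subgroup G} : A ∈ rootCls D d ↔ ∃ e ∈ D, A = EE D e := by
  constructor
  · rintro ⟨g, rfl⟩
    exact ⟨_, hD.cj_mem ht hd g, hD.conjBy_EE ht d g⟩
  · rintro ⟨e, he, rfl⟩
    obtain ⟨g, -, rfl⟩ := hc d hd e he
    exact ⟨g, (hD.conjBy_EE ht d g).symm⟩

theorem Rt.card_EE (hD : Rt D) (ht : closure D = ⊤) (hc : Cls D) {d e : G} (hd : d ∈ D)
    (he : e ∈ D) : Nat.card (EE D e) = Nat.card (EE D d) := by
  obtain ⟨g, -, rfl⟩ := hc d hd e he
  rw [← hD.conjBy_EE ht d g]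
  exact card_map_of_injective (MulAut.conj g).injective

variable [Finite G]

theorem HE.op_of_rankOne (hE : HE D) (hD : Rt D) (ht : closure D = ⊤) (hc : Cls D) {a c : G}
    (ha : a ∈ D) (hcD : c ∈ D) (r : IsRankOnePair (EE D a) (EE D c)) : Op a c := by
  obtain ⟨b, hb, b1, e⟩ := r.cond_left a (RI.mem_EE ha (SameC.refl D a)) (hD.ne a ha)
  obtain ⟨hbD, s⟩ := ((hE.mem_EE hD hc).1 hb).resolve_right b1
  rw [EE_congr s, hD.conjBy_EE ht, hD.conjBy_EE ht, inv_inv, inv_inv, hD.inv ha, hD.inv hbD] at e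
  have h1 := hD.cj a ha b hbD
  have h2 := hD.cj b hbD a ha
  have s2 := hD.sameC_of_mem_EE hc h1 h2 (e ▸ RI.mem_EE h2 (SameC.refl D _))
  have sa := hD.sq a ha
  have sb := hD.sq b hbD
  refine (hD.op_of_sameC' hbD hcD ha s.symm (hD.op_of hbD ha (fun k => ?_) fun f => ?_)).symm
  · rw [cji_eq k sb, cji_eq k.symm sa] at s2
    exact r.ne (EE_congr (s2.trans s.symm))
  · have k := commute_cji (s2.commute h2) sb
    rw [cji_cji sb] at k
    have k2 := (f.commute_r sb sa).mul_right k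
    have e2 : cm b a * (b * (a * b * a) * b) = b := by
      have := f.cm_sq
      calc cm b a * (b * (a * b * a) * b) = cm b a * cm b a * b := by simp only [cm, mul_assoc]
        _ = b := by rw [this, one_mul]
    rw [e2] at k2
    exact hD.ncf hbD ha f k2.symm

/-- The commutator case. -/
theorem HE.commCase (hE : HE D) (hD : Rt D) (hc : Cls D) {S : Set (Subgroup G)}
    (hS : ∀ e ∈ D, EE D e ∈ S) {a c : G} (ha : a ∈ D) (hcD : c ∈ D) (f : Fr a c)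
    (h2 : ∀ a' ∈ Eb D a, ∀ c' ∈ Eb D c, SameC D (cm a c) (cm a' c')) :
    RootCommutatorCase S (EE D a) (EE D c) := by
  have hz := hD.cm_mem ha hcD f
  have fr : ∀ a' ∈ Eb D a, ∀ c' ∈ Eb D c, Fr a' c' := fun a' h1 c' h3 =>
    hD.fr_of_sameC' h1.1 hcD h3.1 h3.2 (hD.fr_of_sameC ha h1.1 hcD h1.2 f)
  have ce : ∀ a' ∈ D, ∀ c' ∈ D, a' * c' * a'⁻¹ * c'⁻¹ = cm a' c' := fun a' h1 c' h3 => by
    rw [hD.inv h1, hD.inv h3, cm]
  have le1 : ⁅EE D a, EE D c⁆ ≤ EE D (cm a c) := by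
    refine commutator_le.2 fun g hg k hk => ?_
    rcases (hE.mem_EE hD hc).1 hg with hg | rfl
    · rcases (hE.mem_EE hD hc).1 hk with hk | rfl
      · rw [commutatorElement_def, ce g hg.1 k hk.1]
        exact RI.mem_EE (hD.cm_mem hg.1 hk.1 (fr g hg k hk)) (h2 g hg k hk)
      · rw [commutatorElement_one_right]; exact one_mem _
    · rw [commutatorElement_one_left]; exact one_mem _
  have ge1 : ∀ a' ∈ Eb D a, EE D (cm a c) ≤
      closure ((fun b : G => a' * b * a'⁻¹ * b⁻¹) '' (EE D c : Set G)) := fun a' h1 =>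
    closure_mono fun w hw => by
      obtain ⟨c', h3, s, -, e⟩ := hE.surj hD hc h1.1 hcD hw.1 (fr a' h1 c (self_mem_Eb hcD))
        ((h2 a' h1 c (self_mem_Eb hcD)).symm.trans hw.2)
      exact ⟨c', RI.mem_EE h3 s, (ce a' h1.1 c' h3).trans e⟩
  have ge2 : ∀ c' ∈ Eb D c, EE D (cm a c) ≤
      closure ((fun b : G => b * c' * b⁻¹ * c'⁻¹) '' (EE D a : Set G)) := fun c' h1 =>
    closure_mono fun w hw => by
      have f1 := fr a (self_mem_Eb ha) c' h1
      obtain ⟨a', h3, s, f3, e⟩ := hE.surj hD hc h1.1 ha hw.1 f1.symm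
        (hD.cms ha h1.1 f1 ▸ (h2 a (self_mem_Eb ha) c' h1).symm.trans hw.2)
      exact ⟨a', RI.mem_EE h3 s, (ce a' h3 c' h1.1).trans ((hD.cms h1.1 h3 f3).trans e)⟩
  have le2 : ∀ a' ∈ EE D a, closure ((fun b : G => a' * b * a'⁻¹ * b⁻¹) '' (EE D c : Set G)) ≤
      ⁅EE D a, EE D c⁆ := fun a' h1 => (closure_le _).2 (by
    rintro _ ⟨b, hb, rfl⟩
    exact commutator_mem_commutator h1 hb)
  have le3 : ∀ c' ∈ EE D c, closure ((fun b : G => b * c' * b⁻¹ * c'⁻¹) '' (EE D a : Set G)) ≤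
      ⁅EE D a, EE D c⁆ := fun c' h1 => (closure_le _).2 (by
    rintro _ ⟨b, hb, rfl⟩
    exact commutator_mem_commutator hb h1)
  have e : ⁅EE D a, EE D c⁆ = EE D (cm a c) :=
    le_antisymm le1 ((ge1 a (self_mem_Eb ha)).trans (le2 a (RI.mem_EE ha (SameC.refl D a))))
  refine ⟨e ▸ hS _ hz, fun z hz' x hx => ?_, fun a' h1 n => le_antisymm (le2 a' h1)
    (le1.trans (ge1 a' (((hE.mem_EE hD hc).1 h1).resolve_right n))), fun c' h1 n =>
    le_antisymm (le3 c' h1) (le1.trans (ge2 c' (((hE.mem_EE hD hc).1 h1).resolve_right n)))⟩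
  have : EE D a ⊔ EE D c ≤ centralizer {z} := sup_le
    (fun y hy => mem_centralizer_singleton_iff.2
      (commute_EE_EE hz (hD.ln_cm ha hcD f).c hy (le1 hz')).eq)
    (fun y hy => mem_centralizer_singleton_iff.2
      (commute_EE_EE hz (hD.ln_cm' ha hcD f).c hy (le1 hz')).eq)
  exact (mem_centralizer_singleton_iff.1 (this hx)).symm

/-- The root subgroups form a class of `k`-root subgroups. -/
theorem HE.kroot (hE : HE D) (hS : SLP.{u}) (hD : Rt D) (ht : closure D = ⊤) (hc : Cls D)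
    (hCl : ∀ a ∈ D, ∀ x ∈ D, Op a x → Cl D a x)
    (h2 : ∀ a ∈ D, ∀ c ∈ D, Fr a c → ∀ a' ∈ Eb D a, ∀ c' ∈ Eb D c, SameC D (cm a c) (cm a' c'))
    {d x : G} (hd : d ∈ D) (hx : x ∈ D) (o : Op d x) :
    ∃ (F : Type) (_ : Field F) (_ : Fintype F), Fintype.card F = Nat.card (EE D d) ∧
      IsKRootSubgroupSet F (rootCls D d) ∧ IsConjClassOfSubgroups (rootCls D d) := by
  obtain ⟨-, F, i1, i2, hF, -⟩ := hS G D hD ht hc hE d x (hCl d hd x hx o)
  have m := fun A => hD.mem_rootCls ht hc hd (A := A)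
  refine ⟨F, i1, i2, hF, ⟨⟨fun A hA => ?_, fun A hA => ?_, ?_, fun A hA g => ?_,
    fun A hA B hB => ?_⟩, fun A hA B hB r => ?_⟩, ⟨_, 1, rfl⟩, fun A hA B hB => ?_⟩
  · obtain ⟨a, -, rfl⟩ := (m A).1 hA
    exact ⟨⟨fun y z => Subtype.ext (commute_EE y.2 z.2).eq⟩⟩
  · obtain ⟨a, ha, rfl⟩ := (m A).1 hA
    exact fun e => hD.ne a ha (mem_bot.1 (e ▸ RI.mem_EE ha (SameC.refl D a)))
  · rw [eq_top_iff, ← ht, closure_le]
    intro a ha
    exact (le_iSup₂ (f := fun A (_ : A ∈ rootCls D d) => A) _ ((m _).2 ⟨a, ha, rfl⟩))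
      (RI.mem_EE ha (SameC.refl D a))
  · obtain ⟨a, ha, rfl⟩ := (m A).1 hA
    exact (m _).2 ⟨_, hD.cj_mem ht ha g, hD.conjBy_EE ht a g⟩
  · obtain ⟨a, ha, rfl⟩ := (m A).1 hA
    obtain ⟨c, hcD, rfl⟩ := (m B).1 hB
    rcases hD.tri ha hcD with k | k | k
    · exact Or.inl (eq_bot_iff.2 (commutator_le.2 fun g hg y hy =>
        mem_bot.2 (commute_EE_EE hcD k hg hy).commutator_eq))
    · exact Or.inr (Or.inl (hS G D hD ht hc hE a c (hCl a ha c hcD k)).1)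
    · exact Or.inr (Or.inr (hE.commCase hD hc (fun e he => (m _).2 ⟨e, he, rfl⟩) ha hcD k
        (h2 a ha c hcD k)))
  · obtain ⟨a, ha, rfl⟩ := (m A).1 hA
    obtain ⟨c, hcD, rfl⟩ := (m B).1 hB
    obtain ⟨-, K, j1, j2, hK, p⟩ := hS G D hD ht hc hE a c
      (hCl a ha c hcD (hE.op_of_rankOne hD ht hc ha hcD r))
    exact psl2Pair_of_equiv (FiniteField.ringEquivOfCardEq
      (hF.trans ((hD.card_EE ht hc hd ha).symm.trans hK.symm))) p
  · obtain ⟨a, ha, rfl⟩ := (m A).1 hA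
    obtain ⟨c, hcD, rfl⟩ := (m B).1 hB
    obtain ⟨g, -, rfl⟩ := hc a ha c hcD
    exact ⟨g, (hD.conjBy_EE ht a g).symm⟩

theorem Od.partner (h : Od D) {a c : G} (ha : a ∈ D) (hcD : c ∈ D) (o : Op a c) :
    ∀ a' ∈ Eb D a, ∃ x' ∈ Eb D c, O3 a' x' := by
  intro a' ha'
  have hD := h.rt
  obtain ⟨r, hr, -, e⟩ := hD.exists_swap ha hcD o
  have o' : Op a r := hD.op_of ha hr (fun k => o.1 (by rw [← e, cji_eq k.symm (hD.sq r hr)]))
    (h.dg a ha r hr)
  obtain ⟨F, i1, i2, -, ψ, -, -, hW, hU⟩ := h.exists_sl2 ha hr o'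
  obtain ⟨t, ht⟩ := (hU a').1 (subset_closure ha')
  have t0 : t ≠ 0 := by
    rintro rfl
    refine hD.ne a' ha'.1 ?_
    rw [← ht, ← map_one ψ]
    congr 1
    apply sl2_ext <;> simp [sl2U]
  have b : sl2U t * (sl2W * sl2U t⁻¹ * (sl2W * sl2W * sl2W)) * sl2U t =
      sl2W * sl2U t⁻¹ * (sl2W * sl2W * sl2W) * sl2U t * (sl2W * sl2U t⁻¹ * (sl2W * sl2W * sl2W)) := by
    have := sl2V_eq (-t⁻¹)
    rw [neg_neg] at this
    rw [← this]
    apply sl2_ext <;> simp only [sl2_mul_apply] <;> simp [sl2U, sl2V, t0]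
  have b2 := congrArg ψ b
  simp only [map_mul, hW, ht, hD.sq r hr, one_mul] at b2
  have m : r * ψ (sl2U t⁻¹) * r ∈ EE D c := by
    have := mem_map_of_mem (MulAut.conj r).toMonoidHom ((hU _).2 ⟨t⁻¹, rfl⟩)
    rw [← conjBy, hD.conjBy_EE h.top, hD.inv hr, e] at this
    simpa [hD.inv hr] using this
  generalize r * ψ (sl2U t⁻¹) * r = y at m b2
  rcases h.mem_closure_Eb.1 m with m | rfl
  · exact ⟨y, m, hD.op_of_sameC' ha ha'.1 m.1 ha'.2
      (hD.op_of_sameC' hcD m.1 ha m.2 o.symm).symm, b2⟩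
  · simp only [mul_one, one_mul, hD.sq a' ha'.1] at b2
    exact absurd b2.symm (hD.ne a' ha'.1)

theorem Od.cl (h : Od D) {a c : G} (ha : a ∈ D) (hcD : c ∈ D) (o : Op a c) : Cl D a c :=
  ⟨ha, hcD, h.partner ha hcD o, fun x' hx =>
    (h.partner hcD ha o.symm x' hx).imp fun _ k => ⟨k.1, k.2.symm⟩⟩

theorem final (hC : Core.{u}) (hS : SLP.{u}) {G : Type u} [Group G] [Finite G] {D : Set G} (hcl : Cfsg.IsRootInvolutionClass D)
    (hO : Cfsg.pCore 2 G = ⊥) (hZ : Subgroup.center G = ⊥) (hDD : (D ∩ Cfsg.commutingProducts D).Nonempty) :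
    (¬ Cfsg.IsConnectedSet (Cfsg.CommAdj D) D ∧
      ((∃ (F : Type) (_ : Field F) (_ : Fintype F), CharP F 2 ∧ 4 ≤ Fintype.card F ∧
          Nonempty (G ≃* Matrix.ProjectiveSpecialLinearGroup (Fin 2) F)) ∨
        Cfsg.Lie.IsoSuzuki G ∨
        (∃ (F : Type) (_ : Field F) (_ : Fintype F) (q : ℕ), CharP F 2 ∧ Fintype.card F = q ^ 2 ∧ 4 ≤ q ∧
          Nonempty (G ≃* Cfsg.PSU 3 F q)))) ∨
    (Cfsg.IsConnectedSet (Cfsg.CommAdj D) D ∧
      (∀ d ∈ D, (Cfsg.sameCommutingSubgroup D d : Set G) = Cfsg.sameCommutingClass D d ∪ {1}) ∧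
      ((∀ d ∈ D, ∃ (F : Type) (_ : Field F) (_ : Fintype F),
          Fintype.card F = Nat.card ↥(Cfsg.sameCommutingSubgroup D d) ∧
          Cfsg.IsKRootSubgroupSet F {A : Subgroup G | ∃ g : G, A = Cfsg.conjBy (Cfsg.sameCommutingSubgroup D d) g} ∧
          Cfsg.IsConjClassOfSubgroups {A : Subgroup G | ∃ g : G, A = Cfsg.conjBy (Cfsg.sameCommutingSubgroup D d) g}) ∨
       (Cfsg.IsNondegenerateRootInvolutionSet D ∧ ∀ d ∈ D, Nat.card ↥(Cfsg.sameCommutingSubgroup D d) = 2 ∧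
          Nat.card ↥(Subgroup.closure (Cfsg.commutingMembers D d)) ≤ 2 ^ 10))) := by
  by_cases hn : IsConnectedSet (CommAdj D) D
  swap
  · have e : G ≃* G ⧸ twoZCore G := QuotientGroup.quotientBot.symm.trans
      (QuotientGroup.quotientMulEquivOfEq
        (eq_bot_iff.2 ((twoZCore_le_center hO).trans hZ.le)).symm)
    refine Or.inl ⟨hn, ?_⟩
    rcases (Cfsg.Agent.S5044.result hcl.1 hDD).resolve_left hn with
      ⟨F, i1, i2, h1, h2, ⟨k⟩⟩ | ⟨F, i1, i2, m, h1, h2, ⟨k⟩⟩ | ⟨F, i1, i2, q, h1, h2, h3, ⟨k⟩⟩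
    · exact Or.inl ⟨F, i1, i2, h1, h2, ⟨e.trans k⟩⟩
    · exact Or.inr (Or.inl ⟨F, i1, i2, m, h1, h2, ⟨e.trans k⟩⟩)
    · exact Or.inr (Or.inr ⟨F, i1, i2, q, h1, h2, h3, ⟨e.trans k⟩⟩)
  have hD := rt_of hcl.1
  have hc := cls_of_class hcl
  have ht := hcl.1.generates
  obtain ⟨a, w, l⟩ := hD.exists_ln hDD
  simp only [sameCommutingSubgroup, Eb_eq]
  have k : HE D → ∀ d ∈ D, (closure (Eb D d) : Set G) = Eb D d ∪ {1} := fun hE d _ =>
    Set.ext fun g => hE.mem_EE hD hc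
  refine Or.inr ⟨hn, ?_⟩
  by_cases dg : Dg D
  · have h : Od D := ⟨hD, dg, ht, hc, fun d hd => hD.exists_ln_at hc l hd, hO, hn⟩
    have hE : HE D := fun d hd e he s ne => (h.ln_of_sameC hd he s ne).m
    refine ⟨k hE, Or.inl fun d hd => ?_⟩
    obtain ⟨x, hx, o⟩ := h.exists_op hd
    exact hE.kroot hS hD ht hc (fun a ha c hc o => h.cl ha hc o)
      (fun a ha c hc f => absurd f (dg a ha c hc)) hd hx o
  have hf : ∃ a ∈ D, ∃ b ∈ D, Fr a b := by
    by_contra hh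
    exact dg fun a ha b hb f => hh ⟨a, ha, b, hb, f⟩
  have ho : ∃ a ∈ D, ∃ b ∈ D, Op a b := by
    by_contra hh
    have hp := hD.isPGroup_closure (S := D) subset_rfl (fun a ha b hb => hD.cj a ha b hb)
      fun a ha b hb o => hh ⟨a, ha, b, hb, o⟩
    rw [ht] at hp
    have : (⊤ : Subgroup G) ≤ pCore 2 G := Cfsg.Lib.Solv.le_pCore inferInstance hp
    exact hD.ne a l.l (mem_bot.1 (hO ▸ this (mem_top a)))
  have h : Nd D := ⟨hD, ht, hc, hf, ho⟩
  obtain ⟨hE, h1 | ⟨h1, h2⟩⟩ := hC G D h hO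
  · refine ⟨k hE, Or.inl fun d hd => ?_⟩
    obtain ⟨x, hx, o⟩ := h.exists_op hd
    exact hE.kroot hS hD ht hc h1 (fun a ha c hc f a' ha' c' hc' =>
      h.sameC_cm2 ha ha'.1 hc hc'.1 ha'.2 hc'.2 f) hd hx o
  · refine ⟨k hE, Or.inr ⟨⟨hcl.1, ⟨a, l.l, w, l.r, l.ne, l.c.eq⟩, ho, hf⟩, fun d hd => ⟨?_, h2 d hd⟩⟩⟩
    rw [h1 d hd, ← zpowers_eq_closure, Nat.card_zpowers, hD.ord hd]

end Cfsg.Lib.Class.RI
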