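import Cfsg.Agent.RI5.Base

/-!
# The root involution theorem: rank two with root subgroups of order two
-/

set_option autoImplicit false

namespace Cfsg.Lib.Class.RI

open Subgroup Cfsg.Lib.Local Cfsg.Agent
open scoped commutatorElement

universe u

namespace Q2

variable {M : Type*} [Group M]

theorem index_le {T : Type*} [Finite T] (K : Subgroup M) (f : M → T)
    (h : ∀ a b, f a = f b → a⁻¹ * b ∈ K) : K.index ≤ Nat.card T :=
  Nat.card_le_card_of_injective (fun q : M ⧸ K => f q.out) fun q r e => by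
    rw [← q.out_eq', ← r.out_eq']
    exact QuotientGroup.eq.2 (h _ _ e)

open Classical in
theorem exists_sg {b : M} (b2 : b * b = 1) (bc : ∀ v, b * v = v * b)
    (hc : ∀ u v : M, u * v = v * u ∨ u * v = b * (v * u)) :
    ∃ s : M → M →* ℤˣ, ∀ u v, s u v = if Commute u v then 1 else -1 := by
  refine ⟨fun u => MonoidHom.mk' (fun v => if Commute u v then 1 else -1) fun v w => ?_,
    fun _ _ => rfl⟩
  by_cases h1 : Commute u v <;> by_cases h2 : Commute u w
  · simp [h1, h2, h1.mul_right h2]
  · have : ¬ Commute u (v * w) := fun c => h2 (by simpa using h1.inv_right.mul_right c)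
    simp [h1, h2, this]
  · have : ¬ Commute u (v * w) := fun c => h1 (by simpa using c.mul_right h2.inv_right)
    simp [h1, h2, this]
  · have : Commute u (v * w) := by
      rw [Commute, SemiconjBy, ← mul_assoc, (hc u v).resolve_left h1, mul_assoc, mul_assoc,
        (hc u w).resolve_left h2, ← mul_assoc v, ← bc, mul_assoc, ← mul_assoc b, b2, one_mul,
        mul_assoc]
    simp [h1, h2, this]

theorem clif [Finite M] {b : M} (b2 : b * b = 1) (bc : ∀ v, b * v = v * b)
    (hc : ∀ u v : M, u * v = v * u ∨ u * v = b * (v * u)) {Q : Subgroup M} (bQ : b ∈ Q)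
    (ab : ∀ x ∈ Q, ∀ y ∈ Q, Commute x y) {T : Type*} [Finite T] {c : M} {u : T → M}
    (h1 : ∀ i, ¬ Commute (u i) c) (h2 : ∀ i j, i ≠ j → ¬ Commute (u i) (u j)) :
    2 ^ Nat.card T ≤ Q.index ^ 2 := by
  classical
  have := Fintype.ofFinite T
  obtain ⟨s, hs⟩ := exists_sg b2 bc hc
  have sy : ∀ x y, s x y = s y x := fun x y => by simp only [hs, Commute.symm_iff (a := x)]
  let φ : M →* (T → ℤˣ) := MonoidHom.pi fun i => s (u i)
  have h3 : φ.range = ⊤ := eq_top_iff.2 fun f _ => by
    rw [← Finset.univ_prod_mulSingle f]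
    refine prod_mem fun i _ => ?_
    rcases Int.units_eq_one_or (f i) with e | e <;> rw [e]
    · simp
    · refine ⟨u i * c, funext fun j => ?_⟩
      rw [map_mul]
      by_cases k : j = i
      · simp [φ, hs, h1, k]
      · simp [φ, hs, h1, k, h2 j i k]
  have h4 : φ.ker.index = 2 ^ Nat.card T := by
    rw [index_ker, h3, card_top, Nat.card_fun, Nat.card_eq_fintype_card (α := ℤˣ),
      Fintype.card_units_int]
  have : Q.Normal := ⟨fun q hq g => by
    rcases hc g q with e | e <;> rw [e]
    · simpa using hq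
    · simpa [mul_assoc] using mul_mem bQ hq⟩
  have li := linearIndependent_monoidHom (M ⧸ Q) ℤ
  have := li.finite
  have h5 : φ.ker.relIndex Q ≤ Q.index := (index_le _ (fun q : Q => QuotientGroup.lift Q
    ((Units.coeHom ℤ).comp (s q)) fun y hy => by simp [MonoidHom.mem_ker, hs, ab q q.2 y hy])
    fun x y e => funext fun i => by
      have := Units.ext (DFunLike.congr_fun e (u i : M ⧸ Q))
      change s (u i) ((x : M)⁻¹ * y) = 1
      rw [map_mul, map_inv, sy, sy (u i), inv_mul_eq_one]
      exact this).trans (by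
    have := Fintype.ofFinite (M ⧸ Q →* ℤ)
    have := Fintype.ofFinite (M ⧸ Q)
    have k := li.fintype_card_le_finrank
    rwa [Module.finrank_fintype_fun_eq_card, ← Nat.card_eq_fintype_card,
      ← Nat.card_eq_fintype_card] at k)
  rw [← h4, sq]
  refine (index_antitone (inf_le_left (b := Q))).trans ?_
  rw [← relIndex_mul_index (inf_le_right (a := φ.ker)), inf_relIndex_right]
  exact Nat.mul_le_mul_right _ h5

theorem card_le [Finite M] {b : M} (b2 : b * b = 1)
    (hc : ∀ u v : M, u * v = v * u ∨ u * v = b * (v * u)) (T : Finset M)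
    (h : ∀ t ∈ T, t * t = 1) : Nat.card (closure (insert b (T : Set M))) ≤ 2 ^ (T.card + 1) := by
  classical
  have k : ∀ t : M, t * t = 1 → Nat.card (zpowers t) ≤ 2 := fun t ht => by
    rw [Nat.card_zpowers]
    exact Nat.le_of_dvd two_pos (orderOf_dvd_of_pow_eq_one ((sq t).trans ht))
  induction T using Finset.induction_on with
  | empty => simpa [← zpowers_eq_closure] using k b b2
  | insert t T ht ih =>
    have : (closure (insert b (T : Set M))).Normal := ⟨fun q hq g => by
      rcases hc g q with e | e <;> rw [e]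
      · simpa using hq
      · simpa [mul_assoc] using mul_mem (subset_closure (Set.mem_insert _ _)) hq⟩
    rw [Finset.coe_insert, Set.insert_comm, Set.insert_eq, Subgroup.closure_union,
      ← zpowers_eq_closure,
      Finset.card_insert_of_notMem ht, pow_succ', ← SetLike.coe_sort_coe, mul_normal]
    exact Set.natCard_mul_le.trans (Nat.mul_le_mul (k t (h t (by simp)))
      (ih fun s hs => h s (by simp [hs])))

theorem le_eight {n : ℕ} (h : 2 ^ n ≤ (n * 2) ^ 2) : n ≤ 8 := by
  by_contra c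
  obtain ⟨m, rfl⟩ : ∃ m, n = m + 9 := ⟨n - 9, by omega⟩
  revert h
  rw [imp_false, not_le]
  clear c
  induction m with
  | zero => norm_num
  | succ m ih => rw [show m + 1 + 9 = m + 9 + 1 by ring, pow_succ 2]; nlinarith [Nat.zero_le m]

end Q2

open Q2

variable {G : Type u} [Group G] [Finite G] {D : Set G}

theorem Nd.card_le_of_R2 (h : Nd D) [Gate.S1175.{u}] (r : R2 D) (q2 : ∀ d ∈ D, Eb D d = {d})
    {b : G} (hb : b ∈ D) : Nat.card (MM D b) ≤ 2 ^ 10 := by
  classical
  have hD := h.rt
  have eq : ∀ {d e}, d ∈ D → e ∈ D → SameC D d e → e = d := fun hd he s =>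
    (q2 _ hd).le ⟨he, s⟩
  have ns : ∀ {d e}, Ln D d e → ¬ SameC D d e := fun l s => l.ne (eq l.l l.r s).symm
  have hE : HE D := fun d hd e he s n => (n (eq hd he s).symm).elim
  have ee : ∀ {d e}, d ∈ D → e ∈ EE D d → e = 1 ∨ e = d := fun hd he =>
    ((hE.mem_EE hD h.cls).1 he).symm.imp_right fun k => (q2 _ hd).le k
  have f1 : ∀ {d u v}, d ∈ D → u ∈ MM D d → v ∈ MM D d → u * v = v * u ∨ u * v = d * (v * u) :=
    fun hd hu hv => (ee hd (hD.comm_mem_EE h.cls hu hv)).imp commutatorElement_eq_one_iff_mul_comm.1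
      fun e => by rw [← e, commutatorElement_def]; group
  have cM : ∀ {d v}, d ∈ D → v ∈ MM D d → Commute d v := fun hd hv =>
    commute_EE_MM (mem_EE hd (SameC.refl D _)) hv
  have f2 : ∀ {u v}, Ln D b u → Ln D b v → Commute u v → v = u ∨ v = b * u := fun lu lv c => by
    obtain ⟨e, he, u', hu', rfl⟩ := r b _ _ lu lv (ns lu) (ns lv) c
    rw [(q2 _ lu.r).le hu']
    exact (ee hb he).imp (fun k => by rw [k, one_mul]) fun k => by rw [k]
  obtain ⟨c, lc⟩ := h.exists_ln hb
  obtain ⟨a, ha, fa, ea⟩ := hD.exists_cm' h.cls lc.symm (ns lc.symm)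
  obtain ⟨x, hx, fx, ex⟩ := hD.exists_cm' h.cls lc (ns lc)
  have la : Ln D a b := ea ▸ hD.ln_cm' lc.r ha fa
  have lx : Ln D x c := ex ▸ hD.ln_cm' hb hx fx
  have a2 := hD.sq a ha
  have x2 := hD.sq x hx
  have s2 : a * x * a * (a * x * a) = 1 := cji_sq a2 x2
  have s1 : a * x * a * b * (a * x * a) = c :=
    (hD.nat (hD.o3 lc.r ha hx fa ea fx ex) hx la fx).1.trans ex
  have bb := hD.self_mem_MM lc
  have bc := mem_MM lc.symm
  have semi : ∀ g ∈ MM D c, (g * a * g⁻¹ = a ∨ g * a * g⁻¹ = b * a) → g ∈ MM D b := fun g hg e => by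
    have mb : b ∈ closure {b, c} := subset_closure (by simp)
    have mc : c ∈ closure {b, c} := subset_closure (by simp)
    have k : ∀ {t}, t * t = 1 → t * b * t ∈ closure {b, c} → t * c * t ∈ closure {b, c} →
        t * g * t * g⁻¹ ∈ closure {b, c} → ∀ {y}, y * g⁻¹ ∈ closure {b, c} →
        t * y * t * g⁻¹ ∈ closure {b, c} := fun {t} t2 h1 h2 h3 {y} hy => by
      have : t * (y * g⁻¹) * t⁻¹ ∈ closure {b, c} :=
        (closure_le ((closure {b, c}).comap (MulAut.conj t).toMonoidHom)).2 (by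
          rintro _ (rfl | rfl) <;> simpa [inv_of_sq t2]) hy
      simpa [inv_of_sq t2, mul_assoc, il t2] using mul_mem this h3
    have ka := @k a a2 (by rwa [cji_eq la.c a2]) (by
      rw [cj_eq_mul_cm a (hD.sq c lc.r), ea]; exact mul_mem mc mb) (by
      rcases e with e | e <;> rw [mul_assoc, mul_assoc, ← mul_assoc g, e]
      · exact a2 ▸ one_mem _
      · rwa [← mul_assoc, cji_eq la.c a2])
    have kx := @k x x2 (by rw [cj_eq_mul_cm x (hD.sq b hb), ex]; exact mul_mem mb mc)
      (by rwa [cji_eq lx.c x2]) (by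
      rcases f1 lc.r (mem_MM lx.symm) hg with e | e <;> rw [e]
      · simp [mul_assoc, il x2]
      · simpa [mul_assoc, il x2] using mc)
    have h1 := (closure_le (MM D b)).2 (by rintro _ (rfl | rfl); exacts [bb, mem_MM lc])
      (ka (kx (ka (y := g) (by simp))))
    have h2 := h.cj_mem_MM hg (a * x * a)
    rw [inv_of_sq s2, cji_swap s2 s1] at h2
    simpa [mul_assoc] using mul_mem (inv_mem h1) h2
  let st : Setoid {y // Ln D b y ∧ ¬ Commute y c} := ⟨fun y z => Commute y.1 z.1,
    fun _ => Commute.refl _, Commute.symm, fun {y z w} h1 h2 => by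
      rcases f2 z.2.1 w.2.1 h2 with e | e <;> rw [e]
      exacts [h1, y.2.1.c.symm.mul_right h1]⟩
  have i1 : (MM D c ⊓ centralizer {b}).relIndex (MM D c) ≤ 2 :=
    (index_le ((MM D c ⊓ centralizer {b}).subgroupOf _)
      (fun g : MM D c => decide (g * b = b * g)) fun g k e => mem_subgroupOf.2
      ⟨(g⁻¹ * k).2, by
      rw [decide_eq_decide] at e
      refine mem_centralizer_singleton_iff.2 ?_
      rw [coe_mul, coe_inv, mul_assoc, inv_mul_eq_iff_eq_mul, ← mul_assoc, ← mul_assoc]
      by_cases e1 : g * b = b * g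
      · rw [e1, mul_inv_cancel_right, e.1 e1]
      · rw [(f1 lc.r g.2 bc).resolve_left e1, (f1 lc.r k.2 bc).resolve_left (mt e.2 e1)]
        group⟩).trans (by simp)
  have i2 : (MM D b ⊓ MM D c).relIndex (MM D c ⊓ centralizer {b}) ≤ Nat.card (Quotient st) :=
    index_le _ (fun g : ↥(MM D c ⊓ centralizer {b}) => Quotient.mk st ⟨g * a * (g : G)⁻¹, by
      simpa only [cj_eq_of_commute (mem_centralizer_singleton_iff.1 g.2.2)] using h.ln_cj la.symm g,
      fun k => hD.ncf lc.r ha fa ((commute_cj_iff (g : G)).1 (by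
        rw [cj_eq_of_commute (cM lc.r g.2.1).symm]; exact k.symm))⟩) fun g k e => by
      have m := (g⁻¹ * k).2
      refine mem_subgroupOf.2 ⟨semi _ m.1 (f2 la.symm (by
        simpa only [cj_eq_of_commute (mem_centralizer_singleton_iff.1 m.2)] using
          h.ln_cj la.symm (g⁻¹ * k :)) ?_), m.1⟩
      have := commute_cj (Quotient.exact e) (g : G)⁻¹
      simpa [mul_assoc] using this
  have i3 : (MM D b ⊓ MM D c).relIndex (MM D b) ≤ Nat.card (Quotient st) * 2 := by
    refine le_trans ?_ ((relIndex_mul_relIndex _ _ _ (le_inf inf_le_right fun g hg =>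
      mem_centralizer_singleton_iff.2 (cM hb hg.1).symm) inf_le_left).ge.trans
      (Nat.mul_le_mul i2 i1))
    refine Nat.le_of_mul_le_mul_left ?_ (Nat.card_pos (α := ↥(MM D b ⊓ MM D c)))
    rw [Trans.card_mul_relIndex inf_le_left, Trans.card_mul_relIndex inf_le_right]
    refine Nat.card_le_card_of_injective (fun g : MM D b => (⟨_, by
      simpa only [inv_of_sq s2, s1] using h.cj_mem_MM g.2 (a * x * a)⟩ : MM D c)) fun g k e => ?_
    exact Subtype.ext (mul_left_cancel (mul_right_cancel (congrArg Subtype.val e)))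
  have b2 : (⟨b, bb⟩ : MM D b) * ⟨b, bb⟩ = 1 := Subtype.ext (hD.sq b hb)
  have hc : ∀ u v : MM D b, u * v = v * u ∨ u * v = ⟨b, bb⟩ * (v * u) := fun u v =>
    (f1 hb u.2 v.2).imp Subtype.ext Subtype.ext
  let u : Quotient st → MM D b := fun i => ⟨i.out.1, mem_MM i.out.2.1⟩
  have n8 := le_eight ((clif b2 (fun v => Subtype.ext (cM hb v.2)) hc
    (Q := (MM D b ⊓ MM D c).subgroupOf _) ⟨bb, bc⟩ (fun y hy z hz => Subtype.ext ?_)
    (c := ⟨c, mem_MM lc⟩) (u := u) (fun i k => i.out.2.2 (congrArg Subtype.val k))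
    fun i j n k => n (Quotient.out_equiv_out.1 (congrArg Subtype.val k :))).trans
    (Nat.pow_le_pow_left i3 2))
  · have := Fintype.ofFinite (Quotient st)
    have k := card_le b2 hc (insert ⟨c, mem_MM lc⟩ (Finset.univ.image u)) (by
      simp only [Finset.mem_insert, Finset.mem_image]
      rintro _ (rfl | ⟨i, -, rfl⟩)
      exacts [Subtype.ext (hD.sq c lc.r), Subtype.ext (hD.sq _ i.out.2.1.r)])
    generalize hH : Subgroup.closure (G := MM D b) _ = H at k
    have mb : ⟨b, bb⟩ ∈ H := hH ▸ Subgroup.subset_closure (by simp)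
    have mc : ⟨c, mem_MM lc⟩ ∈ H := hH ▸ Subgroup.subset_closure (by simp)
    have mu : ∀ i, u i ∈ H := fun i => hH ▸ Subgroup.subset_closure (by simp)
    have k2 : ∀ {v : MM D b} {y : G}, v ∈ H → y = v ∨ y = b * v → y ∈ H.map (MM D b).subtype := by
      rintro v _ hv (rfl | rfl)
      exacts [⟨_, hv, rfl⟩, ⟨_, mul_mem mb hv, rfl⟩]
    have k3 : MM D b ≤ H.map (MM D b).subtype := (closure_le _).2 fun y ly => by
      by_cases e : Commute y c
      · exact k2 mc (f2 lc ly e.symm)
      · exact k2 (mu (Quotient.mk st ⟨y, ly, e⟩)) (f2 (Quotient.mk st ⟨y, ly, e⟩).out.2.1 ly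
          (Quotient.mk_out (s := st) ⟨y, ly, e⟩))
    refine ((card_le_of_le k3).trans (card_map_of_injective (subtype_injective _)).le).trans
      (k.trans (Nat.pow_le_pow_right two_pos ?_))
    have := Finset.card_insert_le (⟨c, mem_MM lc⟩ : MM D b) (Finset.univ.image u)
    have := Finset.card_image_le (s := Finset.univ) (f := u)
    rw [Finset.card_univ, ← Nat.card_eq_fintype_card] at this
    omega
  · exact (f1 hb hy.1 hz.1).elim id fun e1 => (f1 lc.r hy.2 hz.2).resolve_right fun e2 =>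
      lc.ne (mul_right_cancel (e1.symm.trans e2))

end Cfsg.Lib.Class.RI
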