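import Cfsg.Agent.RI5.E2
import Cfsg.Agent.RI5.A
import Cfsg.Agent.RI5.Q2
import Cfsg.Agent.RI5.Fin

/-!
# The root involution theorem: the non-degenerate case
-/

set_option autoImplicit false

namespace Cfsg.Lib.Class.RI

open Subgroup Cfsg.Lib.Local Cfsg.Agent

universe u

theorem core : Core.{u} := by
  intro G _ _ D h hO
  have hE := h.he hO
  have hD := h.rt
  refine ⟨hE, ?_⟩
  by_cases r : R2 D
  swap
  · exact Or.inl fun a ha x hx o => h.cl_of_good hE (h.good_of_not_R2 hE r ha hx o)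
  by_cases hq : Big D
  · exact Or.inl fun a ha x hx o => h.cl_of_good hE (h.good_of_R2 hE r hq ha hx o)
  simp only [Big, not_forall, not_exists, not_and, not_not] at hq
  obtain ⟨a, ha, q⟩ := hq
  have q2 : ∀ d ∈ D, Eb D d = {d} := fun d hd => by
    obtain ⟨g, -, rfl⟩ := h.cls a ha d hd
    refine Set.eq_singleton_iff_unique_mem.2 ⟨self_mem_Eb hd, fun e he => ?_⟩
    have := q (g⁻¹ * e * g⁻¹⁻¹) ⟨h.cj he.1 _, by simpa [mul_assoc] using h.sameC_cj he.2 g⁻¹⟩
    rw [this]
    group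
  refine Or.inr ⟨q2, fun d hd => ?_⟩
  have e : closure (commutingMembers D d) = MM D d := by
    refine le_antisymm ((closure_le _).2 fun w hw => ?_)
      (Subgroup.closure_mono fun w l => ⟨l.r, l.c.eq.symm⟩)
    by_cases e : d = w
    · obtain ⟨v, l⟩ := h.exists_ln hd
      exact e ▸ hD.self_mem_MM l
    · exact mem_MM (h.commute_ln_of_R2 hE r hd hw.1 hw.2.symm e)
  rw [e]
  exact h.card_le_of_R2 r q2 hd

theorem slp : SLP.{u} := fun _ _ _ _ hD ht hc hE _ _ h =>
  ⟨h.isRankOnePair hD ht hc hE, h.sl2 hD ht hc hE⟩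

end Cfsg.Lib.Class.RI
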