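import Cfsg.Agent.RI5.Base

/-!
# The root involution theorem: commutator calculus in `M_b` and paths of length three
-/

set_option autoImplicit false

namespace Cfsg.Lib.Class.RI

open Subgroup Cfsg.Lib.Local Cfsg.Agent
open scoped commutatorElement

universe u

variable {G : Type u} [Group G] {D : Set G}

theorem cj_br (g u v : G) : g * ⁅u, v⁆ * g⁻¹ = ⁅g * u * g⁻¹, g * v * g⁻¹⁆ := by
  simp only [commutatorElement_def]; group

theorem br_eq_one {u v : G} : ⁅u, v⁆ = 1 ↔ Commute u v := commutatorElement_eq_one_iff_commute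

theorem cj_eq_br (g u : G) : g * u * g⁻¹ = ⁅g, u⁆ * u := by
  simp only [commutatorElement_def]; group

theorem br_inv_eq {a : G} (ha : a * a = 1) (g : G) : ⁅a, g⁆ = a * (g * a * g⁻¹) := by
  simp only [commutatorElement_def, inv_of_sq ha, mul_assoc]

/-- a path of length three -/
structure Fm (D : Set G) (a b c x : G) : Prop where
  ab : Ln D b a
  bc : Ln D b c
  cx : Ln D c x
  ac : Fr a c
  bx : Fr b x

theorem Fm.symm {a b c x : G} (f : Fm D a b c x) : Fm D x c b a :=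
  ⟨f.cx, f.bc.symm, f.ab, f.bx.symm, f.ac.symm⟩

/-- the members of `⟨E(a), E(x)⟩` exchanging `E(a)` and `E(x)` -/
def NN (D : Set G) (a x n : G) : Prop := ∃ a' ∈ Eb D a, ∃ x' ∈ Eb D x, O3 a' x' ∧ n = a' * x' * a'

theorem NN.symm {a x n : G} (h : NN D a x n) : NN D x a n := by
  obtain ⟨a', ha, x', hx, o, rfl⟩ := h
  exact ⟨x', hx, a', ha, o.symm, o.2⟩

theorem NN.congr {a x n a₁ x₁ : G} (h : NN D a x n) (s : SameC D a a₁) (s' : SameC D x x₁) :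
    NN D a₁ x₁ n := by
  rwa [NN, ← Eb_congr s, ← Eb_congr s']

theorem NN.mem {a x n : G} (h : NN D a x n) (hD : Rt D) : n ∈ D := by
  obtain ⟨a', ha, x', hx, -, rfl⟩ := h
  exact hD.cj x' hx.1 a' ha.1

theorem NN.mem_sup {a x n : G} (h : NN D a x n) : n ∈ EE D a ⊔ EE D x := by
  obtain ⟨a', ha, x', hx, -, rfl⟩ := h
  exact mul_mem (mul_mem (mem_sup_left (subset_closure ha)) (mem_sup_right (subset_closure hx)))
    (mem_sup_left (subset_closure ha))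

variable [Finite G]

namespace Rt

variable (hD : Rt D) (hc : Cls D) {b u u' v v' : G}
include hD hc

theorem br_symm (hu : u ∈ MM D b) (hv : v ∈ MM D b) : ⁅u, v⁆ = ⁅v, u⁆ := by
  rw [← commutatorElement_inv, inv_of_sq (hD.sq_EE (hD.comm_mem_EE hc hv hu))]

theorem br_mul_l (hu : u ∈ MM D b) (hu' : u' ∈ MM D b) (hv : v ∈ MM D b) :
    ⁅u * u', v⁆ = ⁅u, v⁆ * ⁅u', v⁆ := by
  have : ⁅u * u', v⁆ = u * ⁅u', v⁆ * u⁻¹ * ⁅u, v⁆ := by simp only [commutatorElement_def]; group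
  rw [this, cj_eq_of_commute (commute_EE_MM (hD.comm_mem_EE hc hu' hv) hu).symm,
    (commute_EE (hD.comm_mem_EE hc hu' hv) (hD.comm_mem_EE hc hu hv)).eq]

theorem br_mul_r (hu : u ∈ MM D b) (hv : v ∈ MM D b) (hv' : v' ∈ MM D b) :
    ⁅u, v * v'⁆ = ⁅u, v⁆ * ⁅u, v'⁆ := by
  rw [hD.br_symm hc hu (mul_mem hv hv'), hD.br_mul_l hc hv hv' hu, hD.br_symm hc hv hu,
    hD.br_symm hc hv' hu]

theorem br_sq (hu : u ∈ MM D b) (hv : v ∈ MM D b) : ⁅u, v⁆ * ⁅u, v⁆ = 1 :=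
  hD.sq_EE (hD.comm_mem_EE hc hu hv)

theorem br_inv_l (hu : u ∈ MM D b) (hv : v ∈ MM D b) : ⁅u⁻¹, v⁆ = ⁅u, v⁆ := by
  have := hD.br_mul_l hc hu (inv_mem hu) hv
  rw [mul_inv_cancel, commutatorElement_one_left] at this
  exact (eq_of_mul_eq_one (hD.br_sq hc hu hv) this.symm).symm

theorem br_inv_r (hu : u ∈ MM D b) (hv : v ∈ MM D b) : ⁅u, v⁻¹⁆ = ⁅u, v⁆ := by
  rw [hD.br_symm hc hu (inv_mem hv), hD.br_inv_l hc hv hu, hD.br_symm hc hv hu]

theorem commute_of_br_eq (hu : u ∈ MM D b) (hv : v ∈ MM D b) (hv' : v' ∈ MM D b)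
    (e : ⁅u, v⁆ = ⁅u, v'⁆) : Commute u (v * v') := by
  rw [← br_eq_one, hD.br_mul_r hc hu hv hv', e, hD.br_sq hc hu hv']

theorem sq_mem_EE (hv : v ∈ MM D b) : v * v ∈ EE D b := by
  induction hv using closure_induction with
  | mem x hx => rw [hD.sq x hx.r]; exact one_mem _
  | one => rw [mul_one]; exact one_mem _
  | mul x y hx hy h1 h2 =>
    have : x * y * (x * y) = x * x * ⁅x⁻¹, y⁆ * (y * y) := by
      simp only [commutatorElement_def]; group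
    rw [this]
    exact mul_mem (mul_mem h1 (hD.comm_mem_EE hc (inv_mem hx) hy)) h2
  | inv x _ h1 => rw [← mul_inv_rev]; exact inv_mem h1

end Rt

namespace Nd

variable (h : Nd D)
include h

theorem nn_cj {a x n : G} (k : NN D a x n) (g : G) :
    NN D (g * a * g⁻¹) (g * x * g⁻¹) (g * n * g⁻¹) := by
  obtain ⟨a', ha, x', hx, o, rfl⟩ := k
  exact ⟨_, ⟨h.cj ha.1 g, h.sameC_cj ha.2 g⟩, _, ⟨h.cj hx.1 g, h.sameC_cj hx.2 g⟩, o.cj g, by group⟩

theorem nn_l {a x n : G} (k : NN D a x n) : SameC D x (n * a * n) := by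
  obtain ⟨a', ha, x', hx, o, rfl⟩ := k
  have := h.rt.sameC_cji ha.2 (h.rt.cj x' hx.1 a' ha.1)
  rw [o.swap (h.rt.sq a' ha.1)] at this
  exact hx.2.trans this.symm

theorem nn_r {a x n : G} (k : NN D a x n) : SameC D a (n * x * n) := h.nn_l k.symm

theorem fx_of_swap {a x n n' : G} (hn : n ∈ D) (hn' : n' ∈ D) (s : SameC D x (n' * a * n'))
    (s' : SameC D a (n * x * n)) : Fx D (n * n') a := by
  have := s'.trans (h.rt.sameC_cji s hn)
  simpa only [Fx, mul_inv_rev, h.rt.inv hn, h.rt.inv hn', mul_assoc] using this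

theorem cj_mem_EE_fx {g a e : G} (k : Fx D g a) (he : e ∈ EE D a) : g * e * g⁻¹ ∈ EE D a :=
  EE_congr k ▸ h.cj_mem_EE he g

theorem fr_congr {a b a' b' : G} (ha : a ∈ D) (hb : b ∈ D) (ha' : a' ∈ D) (hb' : b' ∈ D)
    (s : SameC D a a') (s' : SameC D b b') (f : Fr a b) : Fr a' b' :=
  h.rt.fr_of_sameC' ha' hb hb' s' (h.rt.fr_of_sameC ha ha' hb s f)

theorem op_congr {a b a' b' : G} (ha : a ∈ D) (hb : b ∈ D) (ha' : a' ∈ D) (hb' : b' ∈ D)
    (s : SameC D a a') (s' : SameC D b b') (f : Op a b) : Op a' b' :=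
  (h.rt.op_of_sameC' hb hb' ha' s' (h.rt.op_of_sameC' ha ha' hb s f).symm).symm

variable (hE : HE D)
include hE

theorem cj_mem_MM_fx {g a e : G} (ha : a ∈ D) (k : Fx D g a) (he : e ∈ MM D a) :
    g * e * g⁻¹ ∈ MM D a :=
  hE.MM_congr h.rt h.cls ha (h.cj ha g) k ▸ h.cj_mem_MM he g

theorem eq_one_of_fx {e a y : G} (he : e ∈ EE D a) (hy : y ∈ D) (n : ¬ Commute a y)
    (k : Fx D e y) : e = 1 :=
  ((hE.mem_EE h.rt h.cls).1 he).resolve_left fun m =>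
    n ((m.2 y hy).2 (h.commute_of_fx m.1 hy k))

theorem o3_unique {a x x' : G} (ha : a ∈ D) (hx : x ∈ D) (hx' : x' ∈ D) (s : SameC D x x')
    (o : O3 a x) (o' : O3 a x') : x = x' := by
  have sx := h.rt.sq x hx
  have s1 := h.rt.sameC_cji s ha
  rw [o.2, o'.2] at s1
  have s2 := h.rt.sameC_cji s1 hx
  rw [cji_cji sx] at s2
  refine eq_of_mul_eq_one sx (h.eq_one_of_fx hE
    (mul_mem (mem_EE hx (SameC.refl D x)) (mem_EE hx' s)) ha (h.rt.nc hx ha o.1.symm) ?_)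
  simpa only [Fx, mul_inv_rev, h.rt.inv hx, h.rt.inv hx', mul_assoc] using s2

theorem nn_op {a x n n' : G} (k : NN D a x n) (k' : NN D a x n') (hne : n ≠ n') : Op n n' := by
  have hD := h.rt
  obtain ⟨a₁, ha, x₁, hx, o, rfl⟩ := k
  obtain ⟨a₂, ha', x₂, hx', o', rfl⟩ := k'
  have s := ha.2.symm.trans ha'.2
  have s' := hx.2.symm.trans hx'.2
  have ne : a₁ ≠ a₂ := by
    rintro rfl
    exact hne (by rw [h.o3_unique hE ha.1 hx.1 hx'.1 s' o o'])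
  have l := hD.ln_of_hE hE ha.1 ha'.1 s ne
  have o1 := hD.op_of_sameC' ha.1 l.m hx.1 (hD.sameC_third h.cls l s) o.1
  have o2 := (o1.cj_self (hD.sq _ l.m) (hD.sq _ hx.1)).cji (hD.sq _ ha.1)
  have e : a₁ * (a₁ * a₂ * x₁ * (a₁ * a₂)) * a₁ = a₂ * x₁ * a₂ := by
    rw [l.c.eq]
    simp only [mul_assoc, hD.sq _ ha.1, mul_one, ← cl l.c, il (hD.sq _ ha.1)]
  rw [e] at o2
  exact h.op_congr (hD.cj _ hx.1 _ ha.1) (hD.cj _ hx.1 _ ha'.1) (hD.cj _ hx.1 _ ha.1)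
    (hD.cj _ hx'.1 _ ha'.1) (SameC.refl D _) (hD.sameC_cji s' ha'.1) o2

theorem eq_one_of_mem_EE {b c g : G} (n : ¬ SameC D b c) (h1 : g ∈ EE D b) (h2 : g ∈ EE D c) :
    g = 1 := by
  by_contra hne
  exact n ((((hE.mem_EE h.rt h.cls).1 h1).resolve_right hne).2.trans
    (((hE.mem_EE h.rt h.cls).1 h2).resolve_right hne).2.symm)

theorem exists_br {a b e : G} (ha : a ∈ D) (hb : b ∈ D) (f : Fr a b) (he : e ∈ EE D (cm a b)) :
    ∃ b' ∈ EE D b, ⁅a, b'⁆ = e := by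
  rcases (hE.mem_EE h.rt h.cls).1 he with m | rfl
  · obtain ⟨b', hb', s, -, e1⟩ := hE.surj h.rt h.cls ha hb m.1 f m.2
    exact ⟨b', mem_EE hb' s, (commutator_eq_cm (h.rt.sq a ha) (h.rt.sq b' hb')).trans e1⟩
  · exact ⟨1, one_mem _, commutatorElement_one_right a⟩

end Nd

namespace Fm

variable {a b c x : G} (f : Fm D a b c x) (h : Nd D)
include f h

theorem nba : ¬ SameC D b a := fun s => h.rt.ncf f.ab.r f.bc.r f.ac ((s c f.bc.r).1 f.bc.c)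

theorem nbc : ¬ SameC D b c := fun s => h.rt.ncf f.ab.r f.bc.r f.ac ((s a f.ab.r).1 f.ab.c).symm

theorem sb : SameC D b (cm a c) := h.rt.sameC_cm h.cls f.ab f.bc f.ac

theorem op : Op a x := h.rt.op_of_path h.cls f.cx f.ab.r f.ac.symm
  (h.rt.fr_of_sameC' f.cx.r f.ab.l (h.rt.cm_mem f.bc.r f.ab.r f.ac.symm)
    (h.rt.sameC_cm h.cls f.bc f.ab f.ac.symm) f.bx.symm)

theorem cj (g : G) : Fm D (g * a * g⁻¹) (g * b * g⁻¹) (g * c * g⁻¹) (g * x * g⁻¹) :=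
  ⟨h.ln_cj f.ab g, h.ln_cj f.bc g, h.ln_cj f.cx g, f.ac.cj g, f.bx.cj g⟩

variable (hE : HE D)
include hE

theorem congr {a' b' c' x' : G} (ha : a' ∈ D) (hb : b' ∈ D) (hc : c' ∈ D) (hx : x' ∈ D)
    (sa : SameC D a a') (sb : SameC D b b') (sc : SameC D c c') (sx : SameC D x x') :
    Fm D a' b' c' x' :=
  ⟨hE.ln_congr h.rt h.cls f.ab (f.nba h) hb ha sb sa,
    hE.ln_congr h.rt h.cls f.bc (f.nbc h) hb hc sb sc,
    hE.ln_congr h.rt h.cls f.cx (f.symm.nba h) hc hx sc sx,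
    h.fr_congr f.ab.r f.bc.r ha hc sa sc f.ac, h.fr_congr f.ab.l f.cx.r hb hx sb sx f.bx⟩

theorem aM : EE D a ≤ MM D b := hE.EE_le_MM h.rt h.cls f.ab (f.nba h)

theorem cM : EE D c ≤ MM D b := hE.EE_le_MM h.rt h.cls f.bc (f.nbc h)

theorem bM : EE D b ≤ MM D b := hE.EE_le_MM' h.rt f.ab

theorem bMa : EE D b ≤ MM D a := hE.EE_le_MM h.rt h.cls f.ab.symm fun s => f.nba h s.symm

theorem exists_partner {a' : G} (ha : a' ∈ Eb D a) : ∃ x' ∈ Eb D x, O3 a' x' := by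
  have f' := f.congr h hE ha.1 f.ab.l f.bc.r f.cx.r ha.2 (SameC.refl D b) (SameC.refl D c)
    (SameC.refl D x)
  obtain ⟨x', hx, s, o, -⟩ := h.rt.path h.cls f'.ab f.cx.r f.bx
    (h.rt.fr_of_sameC' ha.1 f.bc.r (h.rt.cm_mem f.ab.l f.cx.r f.bx)
      (h.rt.sameC_cm h.cls f.bc.symm f.cx f.bx) f'.ac)
  exact ⟨x', ⟨hx, s⟩, o.symm⟩

theorem cl : Cl D a x :=
  ⟨f.ab.r, f.cx.r, fun _ ha => f.exists_partner h hE ha,
    fun _ hx => (f.symm.exists_partner h hE hx).imp fun _ k => ⟨k.1, k.2.symm⟩⟩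

theorem n_c {a' x' c' : G} (ha : a' ∈ Eb D a) (hx : x' ∈ Eb D x) (o : O3 a' x')
    (hc : c' ∈ EE D c) : a' * x' * a' * c' * (a' * x' * a') = ⁅a', c'⁆ := by
  rcases (hE.mem_EE h.rt h.cls).1 hc with m | rfl
  · have f' := f.congr h hE ha.1 f.ab.l m.1 hx.1 ha.2 (SameC.refl D b) m.2 hx.2
    rw [o.2, (h.rt.nat o.symm ha.1 f'.cx.symm f'.ac.symm).1, h.rt.cms ha.1 m.1 f'.ac,
      commutator_eq_cm (h.rt.sq _ ha.1) (h.rt.sq _ m.1)]
  · rw [mul_one, cji_sq (h.rt.sq _ ha.1) (h.rt.sq _ hx.1), commutatorElement_one_right]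

theorem nn_c {n : G} (k : NN D a x n) : SameC D b (n * c * n) := by
  obtain ⟨a', ha, x', hx, o, rfl⟩ := k
  have f' := f.congr h hE ha.1 f.ab.l f.bc.r hx.1 ha.2 (SameC.refl D b) (SameC.refl D c) hx.2
  rw [f.n_c h hE ha hx o (mem_EE f.bc.r (SameC.refl D c)),
    commutator_eq_cm (h.rt.sq _ ha.1) (h.rt.sq _ f.bc.r)]
  exact f'.sb h

theorem nn_b {n : G} (k : NN D a x n) : SameC D c (n * b * n) := f.symm.nn_c h hE k.symm

theorem nn_MM {n g : G} (k : NN D a x n) (hg : g ∈ MM D c) : n * g * n ∈ MM D b := by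
  have hn := k.mem h.rt
  have := h.cj_mem_MM hg n
  rw [h.rt.inv hn] at this
  rwa [hE.MM_congr h.rt h.cls f.ab.l (h.rt.cj c f.bc.r n hn) (f.nn_c h hE k)]

theorem nn_EE {n g : G} (k : NN D a x n) (hg : g ∈ EE D c) : n * g * n ∈ EE D b := by
  have := h.cj_mem_EE hg n
  rw [h.rt.inv (k.mem h.rt)] at this
  rwa [EE_congr (f.nn_c h hE k)]

theorem fx_a {n n' : G} (k : NN D a x n) (k' : NN D a x n') : Fx D (n * n') a :=
  h.fx_of_swap (k.mem h.rt) (k'.mem h.rt) (h.nn_l k') (h.nn_r k)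

theorem fx_b {n n' : G} (k : NN D a x n) (k' : NN D a x n') : Fx D (n * n') b :=
  h.fx_of_swap (k.mem h.rt) (k'.mem h.rt) (f.nn_b h hE k') (f.nn_c h hE k)

end Fm

namespace Nd

variable (h : Nd D) (hE : HE D)
include h hE

omit hE in
theorem exists_fm {a b c : G} (ab : Ln D b a) (bc : Ln D b c) (ac : Fr a c) :
    ∃ x, Fm D a b c x := by
  obtain ⟨x, hx, fx, e⟩ := h.rt.exists_cm' h.cls bc fun s =>
    h.rt.ncf ab.r bc.r ac ((s a ab.r).1 ab.c).symm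
  exact ⟨x, ab, bc, e ▸ (h.rt.ln_cm' ab.l hx fx).symm, ac, fx⟩

/-- `M_b` acts on `E(a) E(b)` as `E(c)` does. -/
theorem lin {a b c v : G} (ab : Ln D b a) (bc : Ln D b c) (ac : Fr a c) (hv : v ∈ MM D b) :
    ∃ c' ∈ EE D c, ∀ a' ∈ EE D a, ⁅a', v⁆ = ⁅a', c'⁆ := by
  have hD := h.rt
  obtain ⟨d, f⟩ := h.exists_fm bc ab ac.symm
  have aM := f.cM h hE
  induction hv using closure_induction with
  | mem v lv =>
    by_cases cv : Commute a v
    · exact ⟨1, one_mem _, fun a' ha => by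
        rw [commutatorElement_one_right, br_eq_one]; exact commute_of_mem_EE ha lv.r cv⟩
    have f' : Fm D v b a d := ⟨lv, ab, f.cx, (hD.fr_of_ln' ab lv cv).symm, f.bx⟩
    obtain ⟨d', hd, o⟩ := f'.exists_partner h hE (self_mem_Eb lv.r)
    obtain ⟨c', hc', o'⟩ := f.symm.exists_partner h hE hd
    refine ⟨c', subset_closure hc', fun a' ha => ?_⟩
    have e1 := f'.n_c h hE (self_mem_Eb lv.r) hd o ha
    have e2 := f.n_c h hE hc' hd o'.symm ha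
    have m1 := f'.nn_EE h hE ⟨v, self_mem_Eb lv.r, d', hd, o, rfl⟩ ha
    have m2 := f.nn_EE h hE ⟨c', hc', d', hd, o'.symm, rfl⟩ ha
    have e3 := f'.symm.n_c h hE hd (self_mem_Eb lv.r) o.symm m1
    have e4 := f.symm.n_c h hE hd hc' o' m2
    rw [← o.2, cji_cji (cji_sq (hD.sq v lv.r) (hD.sq d' hd.1)), e1] at e3
    rw [o'.2, cji_cji (cji_sq (hD.sq c' hc'.1) (hD.sq d' hd.1)), e2] at e4
    rw [e1] at m1
    rw [e2] at m2
    have bM := f.bMa h hE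
    have dM : d' ∈ MM D a := f.symm.aM h hE (subset_closure hd)
    have k := hD.commute_of_br_eq h.cls dM (f.symm.cM h hE m1) (f.symm.cM h hE m2)
      (e3.symm.trans e4)
    have := hE.eq_one_of_commute hD h.cls (mul_mem m1 m2) hd.1 (hD.ncf ab.l hd.1
      (hD.fr_of_sameC' ab.l f.cx.r hd.1 hd.2 f.bx)) k.symm
    rw [hD.br_symm h.cls (aM ha) (mem_MM lv),
      hD.br_symm h.cls (aM ha) (f.aM h hE (subset_closure hc'))]
    exact eq_of_mul_eq_one (hD.sq_EE m1) this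
  | one => exact ⟨1, one_mem _, fun _ _ => rfl⟩
  | mul u v hu hv h1 h2 =>
    obtain ⟨c₁, m1, e1⟩ := h1
    obtain ⟨c₂, m2, e2⟩ := h2
    exact ⟨c₁ * c₂, mul_mem m1 m2, fun a' ha => by
      rw [hD.br_mul_r h.cls (aM ha) hu hv,
        hD.br_mul_r h.cls (aM ha) (f.aM h hE m1) (f.aM h hE m2), e1 a' ha, e2 a' ha]⟩
  | inv u hu h1 =>
    obtain ⟨c₁, m1, e1⟩ := h1
    exact ⟨c₁, m1, fun a' ha => by rw [hD.br_inv_r h.cls (aM ha) hu, e1 a' ha]⟩

/-- `M_b = E(c) C_{M_b}(E(a))` -/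
theorem lin' {a b c v : G} (ab : Ln D b a) (bc : Ln D b c) (ac : Fr a c) (hv : v ∈ MM D b) :
    ∃ c' ∈ EE D c, ∀ a' ∈ EE D a, Commute a' (v * c') := by
  obtain ⟨c', m, e⟩ := h.lin hE ab bc ac hv
  obtain ⟨d, f⟩ := h.exists_fm ab bc ac
  exact ⟨c', m, fun a' ha =>
    h.rt.commute_of_br_eq h.cls (f.aM h hE ha) hv (f.cM h hE m) (e a' ha)⟩

theorem commute_EE_of {a b v a' : G} (ab : Ln D b a) (n : ¬ SameC D b a) (hv : v ∈ MM D b)
    (cv : Commute a v) (ha : a' ∈ EE D a) : Commute a' v := by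
  obtain ⟨c, hc, fc, e⟩ := h.rt.exists_cm' h.cls ab.symm fun s => n s.symm
  obtain ⟨c', m, e1⟩ := h.lin hE ab (e ▸ (h.rt.ln_cm' ab.r hc fc).symm) fc hv
  have e2 := e1 a (mem_EE ab.r (SameC.refl D a))
  rw [br_eq_one.2 cv] at e2
  have := hE.eq_one_of_commute h.rt h.cls m ab.r (h.rt.ncf hc ab.r fc.symm)
    (br_eq_one.1 e2.symm).symm
  rw [← br_eq_one, e1 a' ha, this, commutatorElement_one_right]

end Nd

end Cfsg.Lib.Class.RI
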