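import Cfsg.Agent.RI5.D1

/-!
# The root involution theorem: the rank two case, action of `M_b ∩ M_c`
-/

set_option autoImplicit false

namespace Cfsg.Lib.Class.RI

open Subgroup Cfsg.Lib.Local Cfsg.Agent
open scoped commutatorElement

universe u

variable {G : Type u} [Group G] [Finite G] {D : Set G}

theorem Nd.cj_mem_MM_c (h : Nd D) {g b v : G} (c : Commute g b) (hv : v ∈ MM D b) :
    g * v * g⁻¹ ∈ MM D b := by
  have := h.cj_mem_MM hv g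
  rwa [cj_eq_of_commute c] at this

theorem Nd.br_mem_MM (h : Nd D) {g b v : G} (c : Commute g b) (hv : v ∈ MM D b) :
    ⁅v, g⁆ ∈ MM D b := by
  have : ⁅v, g⁆ = v * (g * v⁻¹ * g⁻¹) := by simp only [commutatorElement_def]; group
  rw [this]; exact mul_mem hv (h.cj_mem_MM_c c (inv_mem hv))

theorem commute_MM {b v : G} (hv : v ∈ MM D b) : Commute v b :=
  commute_of_mem_closure hv fun _ l => l.c.symm

namespace Fm

variable {a b c x : G} (f : Fm D a b c x) (h : Nd D) (hE : HE D)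
include f h hE

theorem bMc : EE D b ≤ MM D c := f.symm.cM h hE

theorem q_sq {q : G} (h1 : q ∈ MM D b) (h2 : q ∈ MM D c) : q * q = 1 :=
  h.eq_one_of_mem_EE hE (f.nbc h) (h.rt.sq_mem_EE h.cls h1) (h.rt.sq_mem_EE h.cls h2)

theorem q_comm {q q' : G} (h1 : q ∈ MM D b) (h2 : q ∈ MM D c) (h3 : q' ∈ MM D b)
    (h4 : q' ∈ MM D c) : Commute q q' :=
  br_eq_one.1 (h.eq_one_of_mem_EE hE (f.nbc h) (h.rt.comm_mem_EE h.cls h1 h3)
    (h.rt.comm_mem_EE h.cls h2 h4))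

theorem q_cj {m q : G} (hm : m ∈ MM D b) (h1 : q ∈ MM D b) (h2 : q ∈ MM D c) :
    m * q * m⁻¹ ∈ MM D c := by
  rw [cj_eq_br]; exact mul_mem (f.bMc h hE (h.rt.comm_mem_EE h.cls hm h1)) h2

theorem cen_b {g e : G} (hg : g ∈ MM D c) (cg : Commute g b) (he : e ∈ EE D b) : Commute e g :=
  h.commute_EE_of hE f.bc.symm (fun s => f.nbc h s.symm) hg cg.symm he

theorem br_cj {g u v : G} (hg : g ∈ MM D c) (cg : Commute g b) (hu : u ∈ MM D b)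
    (hv : v ∈ MM D b) : ⁅g * u * g⁻¹, v⁆ = ⁅u, g⁻¹ * v * g⁆ := by
  have m := h.cj_mem_MM_c cg.inv_left hv
  rw [inv_inv] at m
  rw [← cj_eq_of_commute (f.cen_b h hE hg cg (h.rt.comm_mem_EE h.cls hu m)).symm, cj_br]
  congr 1; group

theorem br_comm {g v : G} (hg : g ∈ MM D c) (cg : Commute g b) (hv : v ∈ MM D b) :
    Commute ⁅v, g⁆ c := by
  have mc := mem_MM f.bc
  have e : ⁅v, g⁆ = v * (g * v⁻¹ * g⁻¹) := by simp only [commutatorElement_def]; group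
  have e2 : g⁻¹ * c * g = c := by rw [mul_assoc, ← (commute_MM hg).eq, inv_mul_cancel_left]
  rw [← br_eq_one, e, h.rt.br_mul_l h.cls hv (h.cj_mem_MM_c cg (inv_mem hv)) mc,
    f.br_cj h hE hg cg (inv_mem hv) mc, e2, h.rt.br_inv_l h.cls hv mc, h.rt.br_sq h.cls hv mc]

theorem n_eq {a' x' g : G} (ha : a' ∈ Eb D a) (hx : x' ∈ Eb D x) (o : O3 a' x')
    (hg : g ∈ MM D c) (cg : Commute g b) :
    ⁅a', g⁆⁻¹ * (a' * x' * a' * g * (a' * x' * a')) ∈ MM D c := by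
  have hD := h.rt
  have ma := f.aM h hE (subset_closure ha)
  have mx := f.symm.aM h hE (subset_closure hx)
  have mN := f.nn_MM h hE ⟨a', ha, x', hx, o, rfl⟩ hg
  have mw := h.br_mem_MM cg ma
  have cw := f.br_comm h hE hg cg ma
  have mγ := h.br_mem_MM cw mx
  have cγ := f.symm.br_comm h hE mw cw mx
  have m1 := hD.comm_mem_EE h.cls mx hg
  have e : a' * x' * a' * g * (a' * x' * a') =
      a' * (⁅x', ⁅a', g⁆⁆ * ⁅a', g⁆ * ⁅x', g⁆ * g) * a'⁻¹ := by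
    nth_rewrite 3 4 [← hD.inv ha.1]
    nth_rewrite 2 [← hD.inv hx.1]
    simp only [commutatorElement_def]; group
  rw [e] at mN ⊢
  generalize ⁅a', g⁆ = w at *
  generalize ⁅x', w⁆ = γ at *
  generalize ⁅x', g⁆ = c₁ at *
  have m2 : γ * g ∈ MM D b := by
    have k1 := mul_mem (mul_mem (inv_mem ma) mN) ma
    have k2 := h.cj_mem_MM_c cγ (mul_mem mw (f.cM h hE m1))
    have := mul_mem (inv_mem k2) k1
    convert this using 1; group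
  have m3 : ⁅γ, w⁆ ∈ MM D b := by
    rw [← commutatorElement_inv]; exact inv_mem (h.br_mem_MM cγ mw)
  have k1 := f.q_cj h hE (mul_mem (inv_mem mw) ma) m3 (h.br_mem_MM cw mγ)
  have k2 := f.bMc h hE (hD.comm_mem_EE h.cls (inv_mem mw) ma)
  have k3 := f.q_cj h hE ma (f.cM h hE m1) (f.symm.bM h hE m1)
  have k4 := f.q_cj h hE ma m2 (mul_mem mγ hg)
  have := mul_mem (mul_mem (mul_mem k1 k2) k3) k4
  convert this using 1
  have c1 := (commute_EE_MM m1 mγ).eq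
  calc w⁻¹ * (a' * (γ * w * c₁ * g) * a'⁻¹) = w⁻¹ * a' * γ * w * γ⁻¹ * (γ * c₁) * g * a'⁻¹ := by group
    _ = _ := by rw [← c1]; simp only [commutatorElement_def]; group

theorem semi {a' g : G} (ha : a' ∈ Eb D a) (hg : g ∈ MM D c) (cg : Commute g b)
    (k : ⁅a', g⁆ ∈ MM D c) : g ∈ MM D b := by
  obtain ⟨x', hx, o⟩ := f.exists_partner h hE ha
  have m := mul_mem k (f.n_eq h hE ha hx o hg cg)
  rw [mul_inv_cancel_left] at m
  have := f.nn_MM h hE ⟨a', ha, x', hx, o, rfl⟩ m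
  rwa [cji_cji (cji_sq (h.rt.sq _ ha.1) (h.rt.sq _ hx.1))] at this

theorem ln_cj {a' g : G} (ha : a' ∈ Eb D a) (cg : Commute g b) :
    Ln D b (g * a' * g⁻¹) ∧ ¬ SameC D b (g * a' * g⁻¹) := by
  have l := h.ln_cj (hE.ln_congr h.rt h.cls f.ab (f.nba h) f.ab.l ha.1 (SameC.refl D b) ha.2) g
  rw [cj_eq_of_commute cg] at l
  refine ⟨l, fun s => f.nba h (SameC.trans ?_ ha.2.symm)⟩
  rwa [← cj_eq_of_commute cg, h.sameC_cj_iff] at s

theorem semi' (r : R2 D) {a' g : G} (ha : a' ∈ Eb D a) (hg : g ∈ MM D c) (cg : Commute g b)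
    (k : Commute a' (g * a' * g⁻¹)) : g ∈ MM D b := by
  have hD := h.rt
  obtain ⟨l, n⟩ := f.ln_cj h hE ha cg
  obtain ⟨e, he, a'', ha', e1⟩ := r b a' _
    (hE.ln_congr hD h.cls f.ab (f.nba h) f.ab.l ha.1 (SameC.refl D b) ha.2) l
    (fun s => f.nba h (s.trans ha.2.symm)) n k
  have ma := f.aM h hE (subset_closure ha)
  have c1 := f.br_comm h hE hg cg ma
  have c2 := commute_of_mem_EE he f.bc.r f.bc.c
  rw [br_inv_eq (hD.sq _ ha.1), e1, ← RI.cl (commute_EE_MM he ma)] at c1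
  have c3 := c2.inv_left.mul_left c1
  rw [inv_mul_cancel_left] at c3
  have := hE.eq_one_of_commute hD h.cls (mul_mem (subset_closure ha)
    (mem_EE ha'.1 (ha.2.trans ha'.2))) f.bc.r (hD.ncf f.ab.r f.bc.r f.ac) c3
  refine f.semi h hE ha hg cg ?_
  rw [br_inv_eq (hD.sq _ ha.1), e1, ← RI.cl (commute_EE_MM he ma), this, mul_one]
  exact f.bMc h hE he

theorem exists_g {a' x' w : G} (ha : a' ∈ Eb D a) (hx : x' ∈ Eb D x) (o : O3 a' x')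
    (hw : w ∈ MM D b) (cw : Commute w c) :
    a' * x' * a' * w * (a' * x' * a') ∈ MM D c ∧ Commute (a' * x' * a' * w * (a' * x' * a')) b := by
  have k : NN D a x (a' * x' * a') := ⟨a', ha, x', hx, o, rfl⟩
  have sn := h.rt.sq _ (k.mem h.rt)
  refine ⟨f.symm.nn_MM h hE k.symm hw, ?_⟩
  have := commute_cji (f.symm.cen_b h hE hw cw (f.symm.nn_EE h hE k.symm
    (mem_EE f.ab.l (SameC.refl D b)))) sn
  rw [cji_cji sn] at this
  exact this.symm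

/-- `C_{M_c}(b)` is transitive on the lines through `b` other than `bc`. -/
theorem trans {u : G} (l : Ln D b u) (fu : Fr u c) :
    ∃ g ∈ MM D c, Commute g b ∧ Commute (g * a * g⁻¹) u := by
  have hD := h.rt
  have ha := self_mem_Eb f.ab.r
  obtain ⟨x', hx, o⟩ := f.exists_partner h hE ha
  obtain ⟨u', mu, e⟩ := h.lin' hE f.bc l fu.symm (mem_MM f.ab)
  have cw := (e c (mem_EE f.bc.r (SameC.refl D c))).symm
  have nbu : ¬ SameC D b u := fun s => hD.ncf l.r f.bc.r fu ((s c f.bc.r).1 f.bc.c)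
  have mu' := hE.EE_le_MM hD h.cls l nbu mu
  obtain ⟨hg, cg⟩ := f.exists_g h hE ha hx o (mul_mem (mem_MM f.ab) mu') cw
  have k := f.n_eq h hE ha hx o hg cg
  rw [cji_cji (cji_sq (hD.sq _ ha.1) (hD.sq _ hx.1))] at k
  generalize a * x' * a * (a * u') * (a * x' * a) = g at *
  refine ⟨g, hg, cg, ?_⟩
  have m := h.cj f.ab.r g
  rw [br_inv_eq (hD.sq _ ha.1), mul_inv_rev, hD.inv m, hD.inv ha.1, mul_assoc,
    il (hD.sq _ ha.1)] at k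
  have c1 := commute_of_sq_mul (hD.sq _ m) (hD.sq_EE mu)
    (f.q_sq h hE (mul_mem (h.cj_mem_MM_c cg (mem_MM f.ab)) mu') k)
  rcases (hE.mem_EE hD h.cls).1 mu with k' | rfl
  · exact ((k'.2 _ m).2 c1.symm).symm
  · rw [mul_one] at cw
    exact absurd cw (hD.ncf f.ab.r f.bc.r f.ac)

end Fm

/-- a path of length three with a non-trivial element `t` of the torus of `⟨E(a), E(x)⟩` -/
structure Tw (D : Set G) (a b c x a₀ a₁ n₀ n₁ t : G) : Prop where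
  fm : Fm D a b c x
  h0 : a₀ ∈ Eb D a
  h1 : a₁ ∈ Eb D a
  ne : a₀ ≠ a₁
  e0 : ∃ x' ∈ Eb D x, O3 a₀ x' ∧ n₀ = a₀ * x' * a₀
  e1 : ∃ x' ∈ Eb D x, O3 a₁ x' ∧ n₁ = a₁ * x' * a₁
  et : t = n₁ * n₀

namespace Tw

variable {a b c x a₀ a₁ n₀ n₁ t : G} (T : Tw D a b c x a₀ a₁ n₀ n₁ t) (h : Nd D) (hE : HE D)
include T

theorem nn0 : NN D a x n₀ := ⟨a₀, T.h0, T.e0⟩

theorem nn1 : NN D a x n₁ := ⟨a₁, T.h1, T.e1⟩

include h

theorem cj (y : G) : t * y * t⁻¹ = n₁ * (n₀ * y * n₀) * n₁ := by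
  rw [T.et, mul_inv_rev, h.rt.inv (T.nn0.mem h.rt), h.rt.inv (T.nn1.mem h.rt)]
  simp only [mul_assoc]

include hE

theorem fa : Fx D t a := T.et ▸ T.fm.fx_a h hE T.nn1 T.nn0

theorem fb : Fx D t b := T.et ▸ T.fm.fx_b h hE T.nn1 T.nn0

theorem fc : Fx D t c := T.et ▸ T.fm.symm.fx_b h hE T.nn1.symm T.nn0.symm

theorem Ma {v : G} (hv : v ∈ MM D a) : t * v * t⁻¹ ∈ MM D a :=
  h.cj_mem_MM_fx hE T.fm.ab.r (T.fa h hE) hv

theorem Mb {v : G} (hv : v ∈ MM D b) : t * v * t⁻¹ ∈ MM D b :=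
  h.cj_mem_MM_fx hE T.fm.ab.l (T.fb h hE) hv

theorem Mc {v : G} (hv : v ∈ MM D c) : t * v * t⁻¹ ∈ MM D c :=
  h.cj_mem_MM_fx hE T.fm.bc.r (T.fc h hE) hv

theorem m0 : a₀ ∈ MM D b := T.fm.aM h hE (subset_closure T.h0)

theorem m1 : a₁ ∈ MM D b := T.fm.aM h hE (subset_closure T.h1)

theorem L1 {v : G} (hv : v ∈ MM D b) : ⁅a₁, v⁆ = t * ⁅a₀, v⁆ * t⁻¹ := by
  obtain ⟨c', m, e⟩ := h.lin hE T.fm.ab T.fm.bc T.fm.ac hv
  have s0 := h.rt.sq _ (T.nn0.mem h.rt)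
  obtain ⟨x₀, hx₀, o₀, e₀⟩ := T.e0
  obtain ⟨x₁, hx₁, o₁, e₁⟩ := T.e1
  rw [e a₀ (subset_closure T.h0), e a₁ (subset_closure T.h1), T.cj h,
    ← T.fm.n_c h hE T.h0 hx₀ o₀ m, ← T.fm.n_c h hE T.h1 hx₁ o₁ m, ← e₀, ← e₁, cji_cji s0]

theorem m01 : a₀ * a₁ ∈ Eb D a := by
  have s := T.h0.2.symm.trans T.h1.2
  have l := h.rt.ln_of_hE hE T.h0.1 T.h1.1 s T.ne
  exact ⟨l.m, T.h0.2.trans (h.rt.sameC_third h.cls l s)⟩

theorem L2 {e : G} (he : e ∈ EE D b) (k : t * e * t⁻¹ = e) : e = 1 := by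
  have s0 := h.rt.sq _ (T.nn0.mem h.rt)
  have m := T.fm.symm.nn_EE h hE T.nn0.symm he
  have mc := T.fm.cM h hE m
  obtain ⟨x₀, hx₀, o₀, e₀⟩ := T.e0
  have e1 := T.fm.n_c h hE T.h0 hx₀ o₀ m
  rw [← e₀, cji_cji s0] at e1
  have e2 := T.L1 h hE mc
  rw [← e1, k] at e2
  have c1 : Commute (a₀ * a₁) (n₀ * e * n₀) := by
    rw [← br_eq_one, h.rt.br_mul_l h.cls (T.m0 h hE) (T.m1 h hE) mc, ← e1, e2, h.rt.sq_EE he]
  have := hE.eq_one_of_commute h.rt h.cls m (T.m01 h hE).1 (fun k => h.rt.ncf T.fm.ab.r T.fm.bc.r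
    T.fm.ac (((T.m01 h hE).2 c T.fm.bc.r).2 k.symm)) c1.symm
  rw [e1, this, commutatorElement_one_right]

theorem L3 {g v : G} (hg : g ∈ MM D c) (cg : Commute g b) (hv : v ∈ MM D b) :
    ⁅⁅a₁, g⁆, v⁆ = t * ⁅⁅a₀, g⁆, v⁆ * t⁻¹ := by
  have m := h.cj_mem_MM_c cg.inv_left hv
  rw [inv_inv] at m
  rw [br_inv_eq (h.rt.sq _ T.h0.1), br_inv_eq (h.rt.sq _ T.h1.1),
    h.rt.br_mul_l h.cls (T.m0 h hE) (h.cj_mem_MM_c cg (T.m0 h hE)) hv,
    h.rt.br_mul_l h.cls (T.m1 h hE) (h.cj_mem_MM_c cg (T.m1 h hE)) hv,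
    T.fm.br_cj h hE hg cg (T.m0 h hE) hv, T.fm.br_cj h hE hg cg (T.m1 h hE) hv,
    T.L1 h hE hv, T.L1 h hE m]
  group

theorem L4 {w : G} (hw : w ∈ MM D b) (cw : Commute w c) :
    ∃ g ∈ MM D c, Commute g b ∧ ⁅a₀, g⁆⁻¹ * w ∈ MM D c ∧ ⁅a₁, g⁆⁻¹ * (t * w * t⁻¹) ∈ MM D c := by
  have s0 := h.rt.sq _ (T.nn0.mem h.rt)
  obtain ⟨x₀, hx₀, o₀, e₀⟩ := T.e0
  obtain ⟨x₁, hx₁, o₁, e₁⟩ := T.e1
  obtain ⟨hg, cg⟩ := T.fm.exists_g h hE T.h0 hx₀ o₀ hw cw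
  have k0 := T.fm.n_eq h hE T.h0 hx₀ o₀ hg cg
  have k1 := T.fm.n_eq h hE T.h1 hx₁ o₁ hg cg
  rw [← e₁] at k1
  rw [← e₀] at hg cg k0 k1
  rw [cji_cji s0] at k0
  exact ⟨_, hg, cg, k0, T.cj h w ▸ k1⟩

theorem L6 {w : G} (hw : w ∈ MM D b) (cw : Commute w c) (k : w⁻¹ * (t * w * t⁻¹) ∈ MM D c) :
    w ∈ MM D c := by
  have hD := h.rt
  obtain ⟨g, hg, cg, k0, k1⟩ := T.L4 h hE hw cw
  have p0 := h.br_mem_MM cg (T.m0 h hE)
  have p1 := h.br_mem_MM cg (T.m1 h hE)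
  have k2 : ⁅a₀, g⁆⁻¹ * ⁅a₁, g⁆ ∈ MM D c := by
    have := mul_mem (mul_mem k0 k) (inv_mem k1)
    convert this using 1; group
  have k3 : ⁅a₀ * a₁, g⁆ ∈ MM D c := by
    have := mul_mem (mul_mem (mul_mem
      (T.fm.bMc h hE (hD.comm_mem_EE h.cls (T.m0 h hE) p1))
      (T.fm.bMc h hE (hD.comm_mem_EE h.cls p1 p0))) (T.fm.bMc h hE (hD.sq_mem_EE h.cls p0))) k2
    have e : ⁅a₀ * a₁, g⁆ = a₀ * ⁅a₁, g⁆ * a₀⁻¹ * ⁅a₀, g⁆ := by
      simp only [commutatorElement_def]; group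
    rw [e]
    generalize ⁅a₀, g⁆ = p at *
    generalize ⁅a₁, g⁆ = q at *
    convert this using 1
    simp only [commutatorElement_def]; group
  have := T.fm.semi h hE (T.m01 h hE) hg cg k3
  have := mul_mem (T.fm.bMc h hE (hD.comm_mem_EE h.cls (T.m0 h hE) this)) k0
  rwa [mul_inv_cancel_left] at this

/-- The centre of `M_c` lies in `M_b`. -/
theorem cen (r : R2 D) {z : G} (hz : z ∈ MM D c) (cz : ∀ v ∈ MM D c, Commute z v) :
    z ∈ MM D b := by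
  have hD := h.rt
  have f := T.fm
  have cb := cz b (mem_MM f.bc.symm)
  have sz := hD.sq_mem_EE h.cls hz
  have key : ∀ a' ∈ Eb D a, ⁅a', z * a' * z⁻¹⁆ = ⁅a', z * z⁆ := fun a' ha => by
    obtain ⟨x', hx, o⟩ := f.exists_partner h hE ha
    have k : NN D a x (a' * x' * a') := ⟨a', ha, x', hx, o, rfl⟩
    have sn := hD.sq _ (k.mem hD)
    have k1 := f.n_eq h hE ha hx o hz cb
    have mw := h.br_mem_MM cb (f.aM h hE (subset_closure ha))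
    have mζ := f.nn_MM h hE k hz
    have cζ : Commute (a' * x' * a' * z * (a' * x' * a')) ⁅a', z⁆ := by
      have := commute_cji (cz _ (f.symm.nn_MM h hE k.symm mw)) sn
      rwa [cji_cji sn] at this
    have e1 := f.q_sq h hE (mul_mem (inv_mem mw) mζ) k1
    rw [← f.n_c h hE ha hx o sz, cji_mul sn, commutator_eq_cm (hD.sq _ ha.1) (hD.sq _ (h.cj ha.1 z)),
      cm, mul_assoc _ a', ← br_inv_eq (hD.sq _ ha.1)]
    generalize a' * x' * a' * z * (a' * x' * a') = ζ at *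
    generalize ⁅a', z⁆ = w at *
    calc w * w = w * w * (w⁻¹ * ζ * (w⁻¹ * ζ)) := by rw [e1, mul_one]
      _ = w * (ζ * w⁻¹) * ζ := by group
      _ = ζ * ζ := by rw [cζ.inv_right.eq]; group
  have c0 := h.cj_mem_MM_c cb (T.m0 h hE)
  have c1 := h.cj_mem_MM_c cb (T.m1 h hE)
  have c2 := h.cj_mem_MM_c cb.inv_left (T.m0 h hE)
  rw [inv_inv] at c2
  have e1 : ⁅a₁, z * a₁ * z⁻¹⁆ = t * (t * ⁅a₀, z * a₀ * z⁻¹⁆ * t⁻¹) * t⁻¹ := by
    rw [T.L1 h hE c1, hD.br_symm h.cls (T.m0 h hE) c1, f.br_cj h hE hz cb (T.m1 h hE) (T.m0 h hE),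
      T.L1 h hE c2, ← f.br_cj h hE hz cb (T.m0 h hE) (T.m0 h hE),
      hD.br_symm h.cls c0 (T.m0 h hE)]
  rw [key a₁ T.h1, T.L1 h hE (f.cM h hE sz), ← key a₀ T.h0] at e1
  have e2 := T.L2 h hE (hD.comm_mem_EE h.cls (T.m0 h hE) c0) (by simpa using e1.symm)
  exact f.semi' h hE r T.h0 hz cb (br_eq_one.1 e2)

end Tw

/-- the root subgroups have more than two elements -/
def Big (D : Set G) : Prop := ∀ a ∈ D, ∃ a' ∈ Eb D a, a ≠ a'

theorem Fm.exists_tw {a b c x : G} (f : Fm D a b c x) (h : Nd D) (hE : HE D) (hq : Big D) :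
    ∃ a₀ a₁ n₀ n₁ t, Tw D a b c x a₀ a₁ n₀ n₁ t := by
  obtain ⟨a', ha, ne⟩ := hq a f.ab.r
  obtain ⟨x₀, h0, o0⟩ := f.exists_partner h hE (self_mem_Eb f.ab.r)
  obtain ⟨x₁, h1, o1⟩ := f.exists_partner h hE ha
  exact ⟨a, a', _, _, _, f, self_mem_Eb f.ab.r, ha, ne, ⟨x₀, h0, o0, rfl⟩, ⟨x₁, h1, o1, rfl⟩, rfl⟩

theorem Fm.cen {a b c x : G} (f : Fm D a b c x) (h : Nd D) (hE : HE D) (r : R2 D) (hq : Big D)
    {z : G} (hz : z ∈ MM D c) (cz : ∀ v ∈ MM D c, Commute z v) : z ∈ MM D b := by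
  obtain ⟨_, _, _, _, _, T⟩ := f.exists_tw h hE hq
  exact T.cen h hE r hz cz

end Cfsg.Lib.Class.RI
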