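import Cfsg.Agent.RI5.D2

/-!
# The root involution theorem: in the rank two case the torus fixes all lines through `a`
-/

set_option autoImplicit false

namespace Cfsg.Lib.Class.RI

open Subgroup Cfsg.Lib.Local Cfsg.Agent
open scoped commutatorElement

universe u

variable {G : Type u} [Group G] [Finite G] {D : Set G}

namespace Nd

variable (h : Nd D) (hE : HE D) (r : R2 D)
include h hE r

omit hE in
theorem commute_line {b u v y : G} (lu : Ln D b u) (lv : Ln D b v) (nu : ¬ SameC D b u)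
    (nv : ¬ SameC D b v) (c : Commute u v) (hy : y ∈ MM D b) (hy' : ∀ e ∈ EE D u, Commute e y) :
    Commute v y := by
  obtain ⟨e, he, u', hu, rfl⟩ := r b u v lu lv nu nv c
  exact (commute_EE_MM he hy).mul_left (hy' u' (subset_closure hu))

omit hE in
theorem commute_trans {b u v w : G} (lu : Ln D b u) (lv : Ln D b v) (lw : Ln D b w)
    (nu : ¬ SameC D b u) (nv : ¬ SameC D b v) (c : Commute u v) (c' : Commute u w) :
    Commute v w :=
  h.commute_line r lu lv nu nv c (mem_MM lw) fun _ he => commute_of_mem_EE he lw.r c'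

theorem exists_cj_line {p u v b : G} (lu : Ln D p u) (lb : Ln D p b) (f : Fr u b) (lv : Ln D p v)
    (nv : ¬ SameC D p v) (c : Commute u v) :
    ∃ u' ∈ Eb D u, ∃ b' ∈ EE D b, v = b' * u' * b'⁻¹ := by
  have hD := h.rt
  have nu : ¬ SameC D p u := fun s => hD.ncf lu.r lb.r f ((s b lb.r).1 lb.c)
  have nb : ¬ SameC D p b := fun s => hD.ncf lu.r lb.r f ((s u lu.r).1 lu.c).symm
  obtain ⟨e, he, u', hu, rfl⟩ := r p u v lu lv nu nv c
  have f' := hD.fr_of_sameC lu.r hu.1 lb.r hu.2 f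
  have lu' := hE.ln_congr hD h.cls lu nu lu.l hu.1 (SameC.refl D p) hu.2
  obtain ⟨b', hb, e1⟩ := h.exists_br hE hu.1 lb.r f' (EE_congr (hD.sameC_cm h.cls lu' lb f') ▸ he)
  exact ⟨u', hu, b', hb, by
    rw [cj_eq_br, hD.br_symm h.cls (hE.EE_le_MM hD h.cls lb nb hb) (mem_MM lu'), e1]⟩

theorem mem_MM_line {p u v b y : G} (lu : Ln D p u) (lb : Ln D p b) (f : Fr u b) (lv : Ln D p v)
    (nv : ¬ SameC D p v) (c : Commute u v) (h1 : y ∈ MM D p) (h2 : y ∈ MM D u) : y ∈ MM D v := by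
  have hD := h.rt
  have nb : ¬ SameC D p b := fun s => hD.ncf lu.r lb.r f ((s u lu.r).1 lu.c).symm
  obtain ⟨u', hu, b', hb, e⟩ := h.exists_cj_line hE r lu lb f lv nv c
  have m := h.cj_mem_MM (hE.MM_congr hD h.cls lu.r hu.1 hu.2 ▸ h2) b'
  rw [← e, cj_eq_br] at m
  have := mul_mem (inv_mem (hE.EE_le_MM hD h.cls lv.symm (fun s => nv s.symm)
    (hD.comm_mem_EE h.cls (hE.EE_le_MM hD h.cls lb nb hb) h1))) m
  rwa [inv_mul_cancel_left] at this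

theorem fix_unique {p u v b t : G} (lu : Ln D p u) (lb : Ln D p b) (f : Fr u b) (lv : Ln D p v)
    (nv : ¬ SameC D p v) (c : Commute u v) (tb : Fx D t b)
    (ht : ∀ e ∈ EE D b, t * e * t⁻¹ = e → e = 1) (tu : Fx D t u) (tv : Fx D t v) :
    SameC D u v := by
  obtain ⟨u', hu, b', hb, rfl⟩ := h.exists_cj_line hE r lu lb f lv nv c
  have x1 := h.fx_cj tv b'⁻¹
  have x2 : Fx D (b'⁻¹ * t * b' * t⁻¹) u' := by
    refine h.fx_mul ?_ (h.fx_inv (h.fx_congr hu.2 tu))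
    simpa [mul_assoc] using x1
  have m : b'⁻¹ * t * b' * t⁻¹ ∈ EE D b := by
    rw [mul_assoc, mul_assoc, ← mul_assoc t]
    exact mul_mem (inv_mem hb) (h.cj_mem_EE_fx tb hb)
  have := h.eq_one_of_fx hE m hu.1
    (h.rt.ncf lb.r hu.1 (h.rt.fr_of_sameC lu.r hu.1 lb.r hu.2 f).symm) x2
  have e := ht b' hb (by
    calc t * b' * t⁻¹ = b' * (b'⁻¹ * t * b' * t⁻¹) := by group
      _ = b' := by rw [this, mul_one])
  simpa [e] using hu.2

theorem exists_fix {p u b t : G} (lu : Ln D p u) (lb : Ln D p b) (f : Fr u b) (tp : Fx D t p)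
    (tb : Fx D t b) (ht : ∀ e ∈ EE D b, t * e * t⁻¹ = e → e = 1) (c : Commute u (t * u * t⁻¹)) :
    ∃ b' ∈ EE D b, Fx D t (b' * u * b'⁻¹) := by
  have hD := h.rt
  have nu : ¬ SameC D p u := fun s => hD.ncf lu.r lb.r f ((s b lb.r).1 lb.c)
  have n1 : ¬ SameC D (t * p * t⁻¹) (t * u * t⁻¹) := by rwa [h.sameC_cj_iff]
  obtain ⟨u', hu, β, hβ, e⟩ := h.exists_cj_line hE r lu lb f (hE.ln_congr hD h.cls (h.ln_cj lu t)
    n1 lu.l (h.cj lu.r t) tp.symm (SameC.refl D _)) (fun s => n1 (tp.symm.trans s)) c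
  let φ : EE D b → EE D b := fun y => ⟨(t * y * t⁻¹)⁻¹ * y,
    mul_mem (inv_mem (h.cj_mem_EE_fx tb y.2)) y.2⟩
  have hφ : Function.Injective φ := fun y y' k => by
    have k1 : (t * y * t⁻¹)⁻¹ * y = (t * y' * t⁻¹)⁻¹ * y' := congrArg Subtype.val k
    have := ht _ (mul_mem y'.2 (inv_mem y.2)) (by
      calc t * (y' * (y : G)⁻¹) * t⁻¹ = t * y' * t⁻¹ * ((t * y * t⁻¹)⁻¹ * y) * (y : G)⁻¹ := by group
        _ = _ := by rw [k1]; group)
    exact Subtype.ext (mul_inv_eq_one.1 this).symm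
  obtain ⟨y, hy⟩ := Finite.surjective_of_injective hφ ⟨β, hβ⟩
  have k : (t * y * t⁻¹)⁻¹ * y = β := congrArg Subtype.val hy
  refine ⟨y, y.2, ?_⟩
  have : t * (y * u * (y : G)⁻¹) * t⁻¹ = y * u' * (y : G)⁻¹ := by
    calc t * (y * u * (y : G)⁻¹) * t⁻¹ = t * y * t⁻¹ * (t * u * t⁻¹) * (t * y * t⁻¹)⁻¹ := by group
      _ = _ := by rw [e, ← k]; group
  rw [Fx, this]
  exact h.sameC_cj hu.2 y

omit r in
theorem ln_fx {a u g : G} (l : Ln D a u) (n : ¬ SameC D a u) (k : Fx D g a) :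
    Ln D a (g * u * g⁻¹) ∧ ¬ SameC D a (g * u * g⁻¹) :=
  have n1 : ¬ SameC D (g * a * g⁻¹) (g * u * g⁻¹) := by rwa [h.sameC_cj_iff]
  ⟨hE.ln_congr h.rt h.cls (h.ln_cj l g) n1 l.l (h.cj l.r g) k.symm (SameC.refl D _),
    fun s => n1 (k.symm.trans s)⟩

/-- the stabiliser of the point `a` and the line `a u` -/
def LS {a u : G} (l : Ln D a u) (n : ¬ SameC D a u) : Subgroup G where
  carrier := {g | Fx D g a ∧ Commute u (g * u * g⁻¹)}
  one_mem' := ⟨fx_of_commute (Commute.one_left a), by simp⟩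
  mul_mem' := by
    rintro g k ⟨g1, g2⟩ ⟨k1, k2⟩
    refine ⟨h.fx_mul g1 k1, ?_⟩
    have c := commute_cj k2 g
    rw [show g * (k * u * k⁻¹) * g⁻¹ = g * k * u * (g * k)⁻¹ by group] at c
    exact h.commute_trans r (h.ln_fx hE l n g1).1 l (h.ln_fx hE l n (h.fx_mul g1 k1)).1
      (h.ln_fx hE l n g1).2 n g2.symm c
  inv_mem' := by
    rintro g ⟨g1, g2⟩
    exact ⟨h.fx_inv g1, by simpa [mul_assoc] using (commute_cj g2 g⁻¹).symm⟩

theorem MM_le_LS {a u : G} (l : Ln D a u) (n : ¬ SameC D a u) : MM D a ≤ h.LS hE r l n :=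
  fun m hm => ⟨fx_of_commute (commute_MM hm), by
    rw [cj_eq_br]
    exact (commute_EE_MM (h.rt.comm_mem_EE h.cls hm (mem_MM l)) (mem_MM l)).symm.mul_right
      (Commute.refl u)⟩

end Nd

theorem Fm.cen_of_three {a b c x : G} (f : Fm D a b c x) (h : Nd D) (hE : HE D) (r : R2 D) {y v : G}
    (ya : y ∈ MM D a) (yb : y ∈ MM D b) (yc : y ∈ MM D c) (hv : v ∈ MM D b) : Commute y v := by
  have hD := h.rt
  refine (commute_of_mem_closure hv fun u l => ?_).symm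
  by_cases n : SameC D b u
  · exact commute_EE_MM (mem_EE l.r n) yb
  by_cases ca : Commute a u
  · exact h.commute_line r f.ab l (f.nba h) n ca yb fun _ he => commute_EE_MM he ya
  by_cases cc : Commute c u
  · exact h.commute_line r f.bc l (f.nbc h) n cc yb fun _ he => commute_EE_MM he yc
  obtain ⟨d, f'⟩ := h.exists_fm f.bc f.ab f.ac.symm
  have key : ∀ {a c x : G}, Fm D a b c x → y ∈ MM D a → y ∈ MM D c → ¬ Commute c u →
      ∃ e ∈ EE D c, e * y ∈ MM D u := fun {a c x} f ya yc cc => by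
    obtain ⟨g, hg, cg, k⟩ := f.trans h hE l (hD.fr_of_ln' f.bc l cc).symm
    have f1 := f.ac.cj g
    rw [cj_eq_of_commute (commute_MM hg)] at f1
    refine ⟨_, hD.comm_mem_EE h.cls hg yc, cj_eq_br g y ▸ ?_⟩
    exact h.mem_MM_line hE r (f.ln_cj h hE (self_mem_Eb f.ab.r) cg).1 f.bc f1 l n k
      (h.cj_mem_MM_c cg yb) (h.cj_mem_MM ya g)
  obtain ⟨e, he, k⟩ := key f ya yc cc
  obtain ⟨e', he', k'⟩ := key f' yc ya ca
  have m := mul_mem k (inv_mem k')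
  rw [mul_inv_rev, mul_assoc, mul_inv_cancel_left, inv_of_sq (hD.sq_EE he')] at m
  have c1 := commute_of_sq_mul (hD.sq_EE he) (hD.sq_EE he') (h.eq_one_of_mem_EE hE n
    (hD.sq_mem_EE h.cls (mul_mem (f.cM h hE he) (f.aM h hE he'))) (hD.sq_mem_EE h.cls m))
  rcases (hE.mem_EE hD h.cls).1 he with m1 | rfl
  · rw [hE.eq_one_of_commute hD h.cls he' m1.1
      (hD.ncf f.ab.r m1.1 (hD.fr_of_sameC' f.ab.r f.bc.r m1.1 m1.2 f.ac)) c1.symm, one_mul] at k'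
    exact (commute_MM k').symm
  · rw [one_mul] at k
    exact (commute_MM k).symm

omit [Finite G] in
theorem ea_aux {b α β γ κ s σ : G} (hD : Rt D) (h1 : α ∈ EE D b) (h2 : κ ∈ EE D b)
    (h3 : s ∈ EE D b) (h4 : σ ∈ EE D b) (e1 : γ * κ = σ * s) (e2 : α * κ = β * s) :
    α * γ * (β * σ) = 1 := by
  have e3 : β = α * κ * s := by rw [e2, mul_assoc, hD.sq_EE h3, mul_one]
  have e4 : γ = σ * s * κ := by rw [← e1, mul_assoc, hD.sq_EE h2, mul_one]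
  rw [e3, e4]
  simp only [mul_assoc, cl (commute_EE h2 h1), cl (commute_EE h3 h1), cl (commute_EE h4 h1),
    cl (commute_EE h3 h2), cl (commute_EE h4 h2), cl (commute_EE h4 h3), il (hD.sq_EE h1),
    il (hD.sq_EE h2), il (hD.sq_EE h3), hD.sq_EE h4]

namespace Tw

variable {a b c x a₀ a₁ n₀ n₁ t : G} (T : Tw D a b c x a₀ a₁ n₀ n₁ t) (h : Nd D) (hE : HE D)
include T h hE

theorem L5 {w : G} (hw : w ∈ MM D b) (cw : Commute w c) :
    ∃ q₀ ∈ MM D b, ∃ q₁ ∈ MM D b, q₀ ∈ MM D c ∧ q₁ ∈ MM D c ∧ ∀ v ∈ MM D b,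
      ⁅t * w * t⁻¹, v⁆ * ⁅q₁, v⁆ = t * (⁅w, v⁆ * ⁅q₀, v⁆) * t⁻¹ := by
  have hD := h.rt
  obtain ⟨g, hg, cg, k0, k1⟩ := T.L4 h hE hw cw
  have p0 := h.br_mem_MM cg (T.m0 h hE)
  have p1 := h.br_mem_MM cg (T.m1 h hE)
  have tw := T.Mb h hE hw
  refine ⟨_, mul_mem (inv_mem p0) hw, _, mul_mem (inv_mem p1) tw, k0, k1, fun v hv => ?_⟩
  rw [hD.br_mul_l h.cls (inv_mem p0) hw hv, hD.br_mul_l h.cls (inv_mem p1) tw hv,
    hD.br_inv_l h.cls p0 hv, hD.br_inv_l h.cls p1 hv,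
    (commute_EE (hD.comm_mem_EE h.cls p0 hv) (hD.comm_mem_EE h.cls hw hv)).eq,
    (commute_EE (hD.comm_mem_EE h.cls p1 hv) (hD.comm_mem_EE h.cls tw hv)).eq,
    il (hD.br_sq h.cls hw hv), il (hD.br_sq h.cls tw hv), T.L3 h hE hg cg hv]

theorem commute_cj_of {p y : G} (lp : Ln D b p) (np : ¬ SameC D b p) (tp : Fx D t p)
    (hy : y ∈ MM D b) (cy : Commute p y) : Commute p (t * y * t⁻¹) := by
  have := commute_cj (h.commute_EE_of hE lp np hy cy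
    (h.cj_mem_EE_fx (h.fx_inv tp) (mem_EE lp.r (SameC.refl D p)))) t
  simpa [mul_assoc] using this

theorem J0 {j : G} (hj : j ∈ MM D b) (cj : ∀ q ∈ MM D b, q ∈ MM D c → Commute q j) :
    ∃ c' ∈ EE D c, ∀ v ∈ MM D b, Commute v (j⁻¹ * (t * j * t⁻¹) * c') := by
  have hD := h.rt
  have f := T.fm
  have tj := T.Mb h hE hj
  have cj' : ∀ q ∈ MM D b, q ∈ MM D c → Commute q (t * j * t⁻¹) := fun q h1 h2 => by
    have := commute_cj (cj _ (h.cj_mem_MM_fx hE f.ab.l (h.fx_inv (T.fb h hE)) h1)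
      (h.cj_mem_MM_fx hE f.bc.r (h.fx_inv (T.fc h hE)) h2)) t
    simpa [mul_assoc] using this
  have k : ∀ w ∈ MM D b, Commute w c → Commute w (j⁻¹ * (t * j * t⁻¹)) := fun w hw cw => by
    obtain ⟨q₀, m0, q₁, m1, m2, m3, e⟩ := T.L5 h hE hw cw
    have e1 := e _ tj
    rw [br_eq_one.2 (cj' q₀ m0 m2), br_eq_one.2 (cj' q₁ m1 m3), mul_one, mul_one, ← cj_br] at e1
    refine hD.commute_of_br_eq h.cls hw (inv_mem hj) tj ?_
    rw [hD.br_inv_r h.cls hw hj]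
    simpa using e1
  obtain ⟨c', m, e⟩ := h.lin' hE f.ab f.bc f.ac (mul_mem (inv_mem hj) tj)
  refine ⟨c', m, fun v hv => ?_⟩
  obtain ⟨a', m', e'⟩ := h.lin' hE f.bc f.ab f.ac.symm hv
  have c1 := (k _ (mul_mem hv (f.aM h hE m'))
    (e' c (mem_EE f.bc.r (SameC.refl D c))).symm).mul_right (e' c' m).symm
  have := c1.mul_left (e a' m').inv_left
  rwa [mul_inv_cancel_right] at this

theorem J1 {q : G} (h1 : q ∈ MM D b) (h2 : q ∈ MM D c) (ca : Commute a q) :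
    ∀ v ∈ MM D b, Commute v (q⁻¹ * (t * q * t⁻¹)) := by
  have f := T.fm
  obtain ⟨c', m, e⟩ := T.J0 h hE h1 fun q' k1 k2 => f.q_comm h hE k1 k2 h1 h2
  have c1 := (ca.inv_right.mul_right
    (T.commute_cj_of h hE f.ab (f.nba h) (T.fa h hE) h1 ca)).inv_right.mul_right
    (e a (mem_MM f.ab))
  rw [inv_mul_cancel_left] at c1
  rwa [hE.eq_one_of_commute h.rt h.cls m f.ab.r (h.rt.ncf f.bc.r f.ab.r f.ac.symm) c1.symm,
    mul_one] at e

theorem JQ {q v : G} (h1 : q ∈ MM D b) (h2 : q ∈ MM D c) (hv : v ∈ MM D b) (cv : Commute c v) :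
    ⁅q, t * v * t⁻¹⁆ = t * ⁅q, v⁆ * t⁻¹ := by
  have hD := h.rt
  have f := T.fm
  obtain ⟨c', m, e⟩ := h.lin' hE f.ab f.bc f.ac h1
  have mc := f.cM h hE m
  have tv := T.Mb h hE hv
  have k : ∀ v ∈ MM D b, Commute c v → ⁅q, v⁆ = ⁅q * c', v⁆ := fun v hv cv => by
    rw [hD.br_mul_l h.cls h1 mc hv,
      br_eq_one.2 (h.commute_EE_of hE f.bc (f.nbc h) hv cv m), mul_one]
  have m1 := mul_mem h1 mc
  have c1 := T.J1 h hE m1 (mul_mem h2 (f.symm.bM h hE m))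
    (e a (mem_EE f.ab.r (SameC.refl D a))) _ tv
  rw [k v hv cv, k _ tv (T.commute_cj_of h hE f.bc (f.nbc h) (T.fc h hE) hv cv), cj_br]
  have e1 := br_eq_one.2 c1.symm
  rw [hD.br_mul_l h.cls (inv_mem m1) (T.Mb h hE m1) tv, hD.br_inv_l h.cls m1 tv] at e1
  exact eq_of_mul_eq_one (hD.br_sq h.cls m1 tv) e1

theorem iso {w v : G} (hw : w ∈ MM D b) (cw : Commute c w) (hv : v ∈ MM D b) (cv : Commute c v) :
    Commute (w⁻¹ * (t * w * t⁻¹)) (v⁻¹ * (t * v * t⁻¹)) := by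
  have hD := h.rt
  have hc := h.cls
  have tv := T.Mb h hE hv
  have tw := T.Mb h hE hw
  obtain ⟨q₀, m0, q₁, m1, m2, m3, e⟩ := T.L5 h hE hw cw.symm
  have e1 := e v hv
  have e2 := e _ tv
  rw [← cj_br, T.JQ h hE m0 m2 hv cv, T.JQ h hE m1 m3 hv cv] at e2
  rw [← br_eq_one, hD.br_mul_r hc (mul_mem (inv_mem hw) tw) (inv_mem hv) tv,
    hD.br_inv_r hc (mul_mem (inv_mem hw) tw) hv, hD.br_mul_l hc (inv_mem hw) tw hv,
    hD.br_mul_l hc (inv_mem hw) tw tv, hD.br_inv_l hc hw hv, hD.br_inv_l hc hw tv, ← cj_br]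
  refine ea_aux hD (hD.comm_mem_EE hc hw hv) (hD.comm_mem_EE hc m1 hv)
    (h.cj_mem_EE_fx (T.fb h hE) (hD.comm_mem_EE hc m0 hv))
    (h.cj_mem_EE_fx (T.fb h hE) (hD.comm_mem_EE hc hw hv)) (by rw [e1]; group) ?_
  have : t * (⁅w, v⁆ * ⁅q₁, v⁆) * t⁻¹ = t * (⁅w, t * v * t⁻¹⁆ * (t * ⁅q₀, v⁆ * t⁻¹)) * t⁻¹ := by
    rw [← e2]; group
  simpa using this

variable (r : R2 D) (hq : Big D)
include r hq

theorem selfc {j : G} (hj : j ∈ MM D b) (cj : ∀ q ∈ MM D b, q ∈ MM D c → Commute q j) :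
    j ∈ MM D c := by
  have f := T.fm
  obtain ⟨c', m, e⟩ := T.J0 h hE hj cj
  have k := f.symm.cen h hE r hq
    (mul_mem (mul_mem (inv_mem hj) (T.Mb h hE hj)) (f.cM h hE m)) fun v hv => (e v hv).symm
  have := mul_mem k (inv_mem (f.symm.bM h hE m))
  rw [mul_inv_cancel_right] at this
  exact T.L6 h hE hj (cj c (mem_MM f.bc) (h.rt.self_mem_MM f.cx)).symm this

theorem N1 {γ : G} (hγ : γ ∈ MM D b) (cc : Commute c γ) (ca : Commute a γ) :
    γ⁻¹ * (t * γ * t⁻¹) ∈ MM D a := by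
  have hD := h.rt
  have f := T.fm
  have mδ := mul_mem (inv_mem hγ) (T.Mb h hE hγ)
  obtain ⟨d, f'⟩ := h.exists_fm f.bc f.ab f.ac.symm
  obtain ⟨_, _, _, _, _, T'⟩ := f'.exists_tw h hE hq
  let Y : Type u := {y : G // y ∈ MM D a ∧ y ∈ MM D b ∧ Commute c y}
  let ρ : Setoid Y :=
    ⟨fun y y' => ∀ v ∈ MM D b, Commute v (y.1⁻¹ * y'.1), fun y v _ => by simp,
      fun {y y'} k v hv => by simpa using (k v hv).inv_right,
      fun {y y' y''} k k' v hv => by simpa [mul_assoc] using (k v hv).mul_right (k' v hv)⟩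
  let φ : Y → Y := fun y => ⟨y.1⁻¹ * (t * y.1 * t⁻¹),
    mul_mem (inv_mem y.2.1) (T.Ma h hE y.2.1), mul_mem (inv_mem y.2.2.1) (T.Mb h hE y.2.2.1),
    y.2.2.2.inv_right.mul_right
      (T.commute_cj_of h hE f.bc (f.nbc h) (T.fc h hE) y.2.2.1 y.2.2.2)⟩
  have hφ : ∀ y y' : Y, ρ y y' ↔ ρ (φ y) (φ y') := fun y y' => by
    have ma := mul_mem (inv_mem y.2.1) y'.2.1
    have mb := mul_mem (inv_mem y.2.2.1) y'.2.2.1
    have e : (φ y).1⁻¹ * (φ y').1 = (y.1⁻¹ * y'.1)⁻¹ * (t * (y.1⁻¹ * y'.1) * t⁻¹) := by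
      have c1 := f'.q_comm h hE (inv_mem (T.Mb h hE y.2.2.1)) (inv_mem (T.Ma h hE y.2.1))
        (inv_mem mb) (inv_mem ma)
      have c2 := f'.q_comm h hE y.2.2.1 y.2.1 y'.2.2.1 y'.2.1
      show (y.1⁻¹ * (t * y.1 * t⁻¹))⁻¹ * (y'.1⁻¹ * (t * y'.1 * t⁻¹)) = _
      calc (y.1⁻¹ * (t * y.1 * t⁻¹))⁻¹ * (y'.1⁻¹ * (t * y'.1 * t⁻¹))
          = (t * y.1 * t⁻¹)⁻¹ * (y.1 * y'.1⁻¹) * (t * y'.1 * t⁻¹) := by group
        _ = (t * y.1 * t⁻¹)⁻¹ * (y.1⁻¹ * y'.1)⁻¹ * (t * y'.1 * t⁻¹) := by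
          rw [c2.inv_right.eq]; group
        _ = _ := by rw [c1.eq]; group
    show (∀ v ∈ MM D b, Commute v (y.1⁻¹ * y'.1)) ↔ ∀ v ∈ MM D b, Commute v ((φ y).1⁻¹ * (φ y').1)
    rw [e]
    refine ⟨fun k v hv => (k v hv).inv_right.mul_right ?_, fun k v hv => ?_⟩
    · simpa [mul_assoc] using
        commute_cj (k _ (h.cj_mem_MM_fx hE f.ab.l (h.fx_inv (T.fb h hE)) hv)) t
    · exact (f.cen_of_three h hE r ma mb (T.L6 h hE mb (y.2.2.2.inv_right.mul_right y'.2.2.2).symm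
        (f.symm.cen h hE r hq (mul_mem (inv_mem mb) (T.Mb h hE mb)) fun v hv => (k v hv).symm))
        hv).symm
  refine T'.selfc h hE r hq mδ fun q h1 h2 => ?_
  obtain ⟨a', m, e⟩ := h.lin' hE f.bc f.ab f.ac.symm h1
  obtain ⟨y, hy⟩ := surj_mod ρ φ hφ ⟨q * a', mul_mem h2 (f'.symm.bM h hE m),
    mul_mem h1 (f.aM h hE m), e c (mem_EE f.bc.r (SameC.refl D c))⟩
  have c1 := (T.iso h hE hγ cc y.2.2.1 y.2.2.2).mul_right (hy _ mδ)
  have c2 := h.commute_EE_of hE f.ab (f.nba h) mδ (ca.inv_right.mul_right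
    (T.commute_cj_of h hE f.ab (f.nba h) (T.fa h hE) hγ ca)) m
  have := c1.mul_right c2.inv_left.symm
  simpa [φ, mul_assoc] using this.symm

/-- The torus fixes all lines through `a`. -/
theorem N2 {u : G} (l : Ln D a u) : Commute u (t * u * t⁻¹) := by
  have hD := h.rt
  have f := T.fm
  have ta := T.fa h hE
  have tu := h.cj l.r t
  by_cases n : SameC D a u
  · exact (n.symm.trans (h.fx_congr n ta |> n.trans)).commute tu
  obtain ⟨l', n'⟩ := h.ln_fx hE l n ta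
  have nab : ¬ SameC D a b := fun s => f.nba h s.symm
  have k : Commute b (t * u * t⁻¹) ↔ Commute b u := by
    rw [T.fb h hE _ tu, commute_cj_iff]
  by_cases cb : Commute b u
  · exact h.commute_trans r f.ab.symm l l' nab n cb (k.2 cb)
  have f' : Fm D u a b c := ⟨l, f.ab.symm, f.bc, (hD.fr_of_ln' f.ab.symm l cb).symm, f.ac⟩
  obtain ⟨g, hg, cg, e⟩ := f'.trans h hE l' (hD.fr_of_ln' f.ab.symm l' fun c => cb (k.1 c)).symm
  obtain ⟨a', m, e1⟩ := h.lin' hE f.bc f.ab f.ac.symm hg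
  have mγ := mul_mem hg (f.aM h hE m)
  have ca := cg.symm.mul_right (commute_of_mem_EE m l.l (Commute.refl a)).symm
  have k1 := T.N1 h hE r hq mγ (e1 c (mem_EE f.bc.r (SameC.refl D c))) ca
  have e2 : g * a' * u * (g * a')⁻¹ = g * u * g⁻¹ := by
    rw [mul_assoc g, (commute_of_mem_EE m l.r l.c).eq]; group
  rw [← e2] at e
  generalize g * a' = γ at *
  have k2 : γ⁻¹ * t ∈ h.LS hE r l n :=
    ⟨h.fx_mul (fx_of_commute ca.symm.inv_left) ta, by simpa [mul_assoc] using commute_cj e γ⁻¹⟩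
  have k3 := h.MM_le_LS hE r l n (f.bMa h hE (hD.sq_mem_EE h.cls mγ))
  have k4 := h.MM_le_LS hE r l n (h.cj_mem_MM_c ca.symm.inv_left k1)
  have ne : n₁ ≠ n₀ := fun e => by
    have e3 := T.L1 h hE (mem_MM f.bc)
    rw [T.cj h, e, cji_cji (hD.sq _ (T.nn0.mem hD))] at e3
    have m1 := T.m01 h hE
    refine hD.ncf f.ab.r f.bc.r f.ac ((m1.2 c f.bc.r).2 ?_)
    rw [← br_eq_one, hD.br_mul_l h.cls (T.m0 h hE) (T.m1 h hE) (mem_MM f.bc), e3,
      hD.br_sq h.cls (T.m0 h hE) (mem_MM f.bc)]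
  have o := (h.nn_op hE T.nn1 T.nn0 ne).2
  rw [← T.et] at o
  refine (mem_of_sq_mem o (H := h.LS hE r l n) ?_).2
  have := mul_mem (mul_mem (mul_mem k3 k4) k2) k2
  convert this using 1
  group

end Tw

end Cfsg.Lib.Class.RI
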