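import Cfsg.Agent.Class.RootInvStr2
import Cfsg.Agent.Class.OddTrG

/-!
# The root involution theorem: vocabulary
-/

set_option autoImplicit false

namespace Cfsg.Lib.Class.RI

open Subgroup

variable {G : Type*} [Group G]

/-- the sets `E_d ∪ {1}` are closed under multiplication -/
def HE (D : Set G) : Prop := ∀ d ∈ D, ∀ e ∈ D, SameC D d e → d ≠ e → d * e ∈ D

/-- the root subgroup `E(d)` -/
abbrev EE (D : Set G) (d : G) : Subgroup G := closure (Eb D d)

/-- the subgroup `M_d` generated by the lines through `d` -/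
abbrev MM (D : Set G) (d : G) : Subgroup G := closure {y | Ln D d y}

/-- every member of `E_a` has a partner of order three in `E_x`, and conversely -/
structure Cl (D : Set G) (a x : G) : Prop where
  l : a ∈ D
  r : x ∈ D
  p : ∀ a' ∈ Eb D a, ∃ x' ∈ Eb D x, O3 a' x'
  q : ∀ x' ∈ Eb D x, ∃ a' ∈ Eb D a, O3 a' x'

/-- an opposite pair at distance three -/
structure Good (D : Set G) (a x : G) : Prop where
  r : x ∈ D
  op : Op a x
  ex : ∃ b, Ln D a b ∧ Fr b x

/-- the members of the root subgroups on the "hyperbolic line" through `a` and `x` -/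
def Om (D : Set G) (a x : G) : Set G :=
  {y | y ∈ Eb D a ∨ ∃ e ∈ EE D a, ∃ x' ∈ Eb D x, y = e * x' * e}

/-- `v` lies on the line through `d` and `u` and is different from the point `d` -/
def OnL (D : Set G) (d u v : G) : Prop := ∃ e ∈ EE D d, ∃ u' ∈ Eb D u, v = e * u'

/-- rank two: commuting points on lines through `d` lie on one line through `d` -/
def R2 (D : Set G) : Prop :=
  ∀ d u v, Ln D d u → Ln D d v → ¬ SameC D d u → ¬ SameC D d v → Commute u v → OnL D d u v

/-- `g` fixes the point `E(a)` -/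
def Fx (D : Set G) (g a : G) : Prop := SameC D a (g * a * g⁻¹)

theorem Cl.symm {D : Set G} {a x : G} (h : Cl D a x) : Cl D x a :=
  ⟨h.r, h.l, fun x' hx => (h.q x' hx).imp fun _ k => ⟨k.1, k.2.symm⟩,
    fun a' ha => (h.p a' ha).imp fun _ k => ⟨k.1, k.2.symm⟩⟩

theorem self_mem_Eb {D : Set G} {a : G} (ha : a ∈ D) : a ∈ Eb D a := ⟨ha, SameC.refl D a⟩

theorem Eb_congr {D : Set G} {a b : G} (s : SameC D a b) : Eb D a = Eb D b :=
  Set.ext fun _ => ⟨fun h => ⟨h.1, s.symm.trans h.2⟩, fun h => ⟨h.1, s.trans h.2⟩⟩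

theorem commute_of_mem_EE {D : Set G} {d e y : G} (he : e ∈ EE D d) (hy : y ∈ D)
    (c : Commute d y) : Commute e y :=
  commute_of_mem_closure he fun _ hs => (hs.2 y hy).1 c

theorem HE.mem_EE [Finite G] {D : Set G} (hE : HE D) (hD : Rt D) (hc : Cls D) {d g : G} :
    g ∈ EE D d ↔ g ∈ Eb D d ∨ g = 1 := by
  refine ⟨fun hg => ?_, ?_⟩
  · induction hg using closure_induction with
    | mem x hx => exact Or.inl hx
    | one => exact Or.inr rfl
    | mul x y _ _ hx hy =>
      rcases hx with hx | rfl
      · rcases hy with hy | rfl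
        · by_cases e : x = y
          · subst e; exact Or.inr (hD.sq x hx.1)
          · have s := hx.2.symm.trans hy.2
            have l := hD.ln_of_hE hE hx.1 hy.1 s e
            exact Or.inl ⟨l.m, hx.2.trans (hD.sameC_third hc l s)⟩
        · rw [mul_one]; exact Or.inl hx
      · rwa [one_mul]
    | inv x _ hx =>
      rcases hx with hx | rfl
      · rw [hD.inv hx.1]; exact Or.inl hx
      · exact Or.inr inv_one
  · rintro (hg | rfl)
    · exact subset_closure hg
    · exact one_mem _

end Cfsg.Lib.Class.RI
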