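import Cfsg.Agent.RI5.Om
import Cfsg.Agent.Class.QuadSL2

/-!
# A closed pair of root subgroups generates `SL₂(q)`
-/

set_option autoImplicit false
set_option linter.unusedSectionVars false

universe u

namespace Cfsg

open Lib.Class in
theorem IsPSL2PairOver.commute_of_norm {G : Type*} [Group G] {k : Type*} [Field k] {A B : Subgroup G}
    (h : IsPSL2PairOver k A B) {g g' : G} (hg : g ∈ A ⊔ B) (hg' : g' ∈ A ⊔ B)
    (h1 : g ∈ Subgroup.normalizer (A : Set G)) (h2 : g ∈ Subgroup.normalizer (B : Set G))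
    (h3 : g' ∈ Subgroup.normalizer (A : Set G)) (h4 : g' ∈ Subgroup.normalizer (B : Set G)) : Commute g g' := by
  obtain ⟨φ, e, hk, rfl, rfl⟩ := h
  have z : ∀ {m n : Matrix.SpecialLinearGroup (Fin 2) k}, φ m = φ n → ∃ r : k, m.1 = r • n.1 := fun {m n} e => by
    obtain ⟨r, -, hr⟩ := Matrix.SpecialLinearGroup.mem_center_iff.1
      (hk (show φ (m * n⁻¹) = 1 by rw [map_mul, map_inv, e, mul_inv_cancel]))
    refine ⟨r, ?_⟩
    rw [← inv_mul_cancel_right m n, Matrix.SpecialLinearGroup.coe_mul, ← hr, Matrix.scalar_apply,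
      Matrix.smul_eq_diagonal_mul]
  have d : ∀ m, φ m ∈ Subgroup.normalizer ((upperUnipotentSL2 k).map φ : Set G) →
      φ m ∈ Subgroup.normalizer ((lowerUnipotentSL2 k).map φ : Set G) → m 1 0 = 0 ∧ m 0 1 = 0 := fun m h1 h2 => by
    obtain ⟨_, hu, e1⟩ := (Subgroup.mem_normalizer_iff.1 h1 _).1 ⟨_, mem_upperUnipotentSL2.2 ⟨1, rfl⟩, rfl⟩
    obtain ⟨_, hv, e2⟩ := (Subgroup.mem_normalizer_iff.1 h2 _).1 ⟨_, mem_lowerUnipotentSL2.2 ⟨1, rfl⟩, rfl⟩
    obtain ⟨c, rfl⟩ := mem_upperUnipotentSL2.1 hu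
    obtain ⟨c', rfl⟩ := mem_lowerUnipotentSL2.1 hv
    rw [← map_mul, ← map_inv, ← map_mul] at e1 e2
    obtain ⟨r, e1⟩ := z e1.symm
    obtain ⟨r', e2⟩ := z e2.symm
    have e3 := congrFun (congrFun e1 1) 0
    have e4 := congrFun (congrFun e2 0) 1
    simp [Matrix.SpecialLinearGroup.coe_inv, Matrix.adjugate_fin_two, Matrix.mul_apply, Fin.sum_univ_two] at e3 e4
    constructor
    · exact pow_eq_zero_iff two_ne_zero |>.1 (by linear_combination -e3)
    · exact pow_eq_zero_iff two_ne_zero |>.1 (by linear_combination -e4)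
  obtain ⟨m, rfl⟩ := e.ge hg
  obtain ⟨n, rfl⟩ := e.ge hg'
  obtain ⟨h5, h6⟩ := d m h1 h2
  obtain ⟨h7, h8⟩ := d n h3 h4
  refine Commute.map (f := φ) ?_
  ext i j
  fin_cases i <;> fin_cases j <;> simp [Matrix.mul_apply, Fin.sum_univ_two, h5, h6, h7, h8, mul_comm]

end Cfsg

namespace Cfsg.Lib.Class.RI

open Subgroup Cfsg.Lib.Local Cfsg.Lib.Solv Cfsg.Lib.Chev.RankOne Cfsg.Lib.Chev.Core Cfsg.Agent

variable {G : Type u} [Group G] [Finite G] {D : Set G}

omit [Finite G] in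
open Classical in
theorem O3.isPSL2PairOver {F : Type*} [Field F] (c : ∀ t : F, t = 0 ∨ t = 1) {a x : G} (h : O3 a x) (ha : a * a = 1)
    (hx : x * x = 1) : IsPSL2PairOver F (closure {a}) (closure {x}) := by
  have c1 : ∀ t : F, t ≠ 0 → t = 1 := fun t => (c t).resolve_left
  have v3 : (-1 : F) = 1 := c1 _ (by simp)
  have v2 : (1 + 1 : F) = 0 := by linear_combination -v3
  have R : R1Rel (fun t : F => if t = 0 then 1 else a) fun t : F => if t = 0 then 1 else x := by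
    refine ⟨fun t u => ?_, fun t u => ?_, fun t u ht => ?_, fun t u ht hu => ?_⟩
    · rcases c t with rfl | rfl <;> rcases c u with rfl | rfl <;> simp [v2, ha]
    · rcases c t with rfl | rfl <;> rcases c u with rfl | rfl <;> simp [v2, hx]
    · rw [c1 t ht]
      rcases c u with rfl | rfl <;> simp only [r1n, v3, inv_one, one_pow, mul_zero, neg_zero, one_mul, mul_one,
        one_ne_zero, if_true, if_false]
      rw [mul_assoc _ a, ha, mul_one, h.2, ← mul_assoc, ← mul_assoc, hx, one_mul]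
    · rw [c1 t ht, c1 u hu]
      simp only [r1h, r1n, v3, inv_one, mul_one, cji_sq ha hx, one_ne_zero, if_false]
  have k : ∀ {s : G} {f : F → Matrix.SpecialLinearGroup (Fin 2) F} {U : Subgroup _},
      (∀ g, g ∈ U ↔ ∃ t, g = f t) → (∀ t, R.hom (f t) = if t = 0 then 1 else s) → U.map R.hom = closure {s} :=
    fun {s f U} h1 h2 => by
      refine le_antisymm ?_ ((closure_le _).2 (Set.singleton_subset_iff.2 ⟨f 1, (h1 _).2 ⟨1, rfl⟩, by simp [h2]⟩))
      rintro _ ⟨g, hg, rfl⟩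
      obtain ⟨t, rfl⟩ := (h1 g).1 hg
      rw [h2]
      split_ifs
      exacts [one_mem _, subset_closure rfl]
  rw [← k (f := sl2U) (fun _ => mem_upperUnipotentSL2) R.hom_U, ← k (f := sl2V) (fun _ => mem_lowerUnipotentSL2) R.hom_V]
  refine isPSL2PairOver_of_hom _ fun g hg => ?_
  have n := h.1.not_commute ha hx
  rw [MonoidHom.mem_ker] at hg
  by_cases e : g 1 0 = 0
  · have d := sl2_det g
    rw [e, mul_zero, sub_zero] at d
    have h0 := c1 _ (left_ne_zero_of_mul_eq_one d)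
    have h1 := c1 _ (right_ne_zero_of_mul_eq_one d)
    rcases c (g 0 1) with h2 | h2
    · rw [show g = 1 from sl2_ext h0 h2 e h1]; exact one_mem _
    · rw [show g = sl2U 1 from sl2_ext h0 h2 e h1, R.hom_U, if_neg one_ne_zero] at hg
      exact absurd (by rw [hg]; exact Commute.one_left x) n
  · rw [sl2_eq_of_ne e, map_mul, map_mul, R.hom_U, R.hom_U, R.hom_V, if_neg e, mul_eq_one_iff_eq_inv,
      ← eq_inv_mul_iff_mul_eq] at hg
    exact absurd (by rw [hg]; split_ifs <;> simp) n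

variable (hD : Rt D) (ht : closure D = ⊤) (hc : Cls D) (hE : HE D) {a x g g' : G} (h : Cl D a x)
include hD ht hc hE h

theorem Cl.rt_Om : Rt (Om D a x) ∧ Dg (Om D a x) := by
  have m := fun {y} (hy : y ∈ Om D a x) => h.mem_of_Om hD ht hy
  have k : ∀ y ∈ Om D a x, ∀ z ∈ Om D a x, Commute y z ∨ Op y z := fun y hy z hz =>
    (em _).imp (fun s => SameC.commute s (m hz).1) (h.op_of_Om hD ht hc hE hy hz)
  refine ⟨⟨fun d hd => hD.sq d (m hd).1, fun d hd => hD.ne d (m hd).1, fun d hd e he => ?_,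
    fun y hy z hz => (k y hy z hz).imp_right fun o => .inl o.2⟩, fun y hy z hz f => ?_⟩
  · simpa only [hD.inv (m he).1] using h.cj_mem_Om hD ht hc hE hd (m he).2
  · exact (k y hy z hz).elim (hD.ncf (m hy).1 (m hz).1 f) f.not_op

theorem Cl.sl2 [Gate.S1175.{u}] : ∃ (F : Type) (_ : Field F) (_ : Fintype F),
    Fintype.card F = Nat.card (EE D a) ∧ IsPSL2PairOver F (EE D a) (EE D x) := by
  have : Fact (Nat.Prime 2) := ⟨Nat.prime_two⟩
  have md := self_mem_Eb h.l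
  obtain ⟨x0, hx0, o3⟩ := h.p a md
  have sa := hD.sq a h.l
  have sx := hD.sq x0 hx0.1
  have st := cji_sq sa sx
  have mt : a * x0 * a ∈ Om D a x := .inr ⟨a, subset_closure md, x0, hx0, rfl⟩
  have eE : (EE D a).map (MulAut.conj (a * x0 * a)).toMonoidHom = EE D x := by
    rw [hD.map_EE ht, inv_of_sq st, o3.swap sa, EE_congr hx0.2]
  by_cases nl : ∀ w ∈ Eb D a, w = a
  · have e1 : EE D a = closure {a} := congrArg Subgroup.closure (Set.eq_singleton_iff_unique_mem.2 ⟨md, nl⟩)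
    refine ⟨ZMod 2, inferInstance, inferInstance, ?_, ?_⟩
    · rw [e1, ← zpowers_eq_closure, Nat.card_zpowers, hD.ord h.l]; rfl
    · rw [← eE, e1, MonoidHom.map_closure, Set.image_singleton]
      convert O3.isPSL2PairOver (F := ZMod 2) (by decide +revert) o3 sa sx
      exact (congrArg _ (inv_of_sq st)).trans (o3.swap sa)
  push Not at nl
  obtain ⟨w, hw, nw⟩ := nl
  have l := hD.ln_of_hE hE h.l hw.1 hw.2 nw.symm
  have ot : Op a (a * x0 * a) := o3.1.cj_left sa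
  have e3 : a * x0 * a * a * (a * x0 * a) = a⁻¹ * (a * x0 * a) * a := by
    rw [o3.swap sa, inv_of_sq sa, cji_cji sa]
  generalize a * x0 * a = t at st mt eE ot e3
  obtain ⟨X, eX⟩ : ∃ X, closure (Eb D a ∪ {t}) = X := ⟨_, rfl⟩
  have hxX : t ∈ X := eX ▸ subset_closure (Or.inr rfl)
  have mX : ∀ e ∈ Eb D a, e ∈ X := fun e he => eX ▸ subset_closure (Or.inl he)
  have le : EE D a ≤ X := (closure_le _).2 mX
  have m := fun {y} (hy : y ∈ Om D a x) => h.mem_of_Om hD ht hy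
  have eL : X = EE D a ⊔ EE D x := by
    refine le_antisymm (eX ▸ (closure_le _).2 (Set.union_subset (fun e he => mem_sup_left (subset_closure he))
      (Set.singleton_subset_iff.2 (m mt).2))) (sup_le le ?_)
    rw [← eE]
    rintro _ ⟨e, he, rfl⟩
    exact mul_mem (mul_mem hxX (le he)) (inv_mem hxX)
  obtain ⟨r1, r2⟩ := h.rt_Om hD ht hc hE
  have sub : Eb D a ⊆ Om D a x := fun _ => .inl
  have hX : X ≤ closure (Om D a x) :=
    eX ▸ closure_mono (Set.union_subset sub (Set.singleton_subset_iff.2 mt))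
  have go := genOp_quot r1 r2 md mt sub ot eX (fun s hs c hc _ => hs.2 c (m hc).1) (mX a md) hxX
  have mC : ∀ s : X, (s : G) ∈ Eb D a → s ∈ clsIn X t := fun s hs =>
    clsIn_of_op r1 mt (sub hs) hxX (hD.op_of_sameC' h.l hs.1 (m mt).1 hs.2 ot)
  have l' : Ln (clsIn X t) ⟨a, mX a md⟩ ⟨w, mX w hw⟩ := ⟨mC _ md, mC _ hw, fun e => l.ne (congrArg Subtype.val e),
    commute_coe.1 l.c, mC _ ⟨l.m, hD.sameC_third hc l hw.2⟩⟩
  have gen := closure_preimage_eq_top eX hxX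
  generalize hf : QuotientGroup.mk' (pCore 2 X) = f at go
  have surj : Function.Surjective f := hf ▸ QuotientGroup.mk'_surjective _
  have ker : ∀ g, f g = 1 ↔ g ∈ pCore 2 X := fun g => hf ▸ QuotientGroup.eq_one_iff g
  have hne : ∀ d ∈ clsIn X t, f d ≠ 1 := fun d hd => go.rt.ne _ ⟨d, hd, rfl⟩
  obtain ⟨-, Ω, i1, i2, p, Q, T, hH, hS, hQ, hAB, hL⟩ := go.rkOne (l'.map (rt_clsIn r1 r2 hX mt) hne)
  have k2 : ∀ e : X, (e : G) ∈ Eb D a → f e ∈ II _ p := fun e he =>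
    ⟨Q_fix hH.setup (hS ⟨e, he, rfl⟩), hne _ (mC e he), go.rt.sq _ ⟨e, mC e he, rfl⟩⟩
  have hA : Suz.CaseA Q := hAB.resolve_right fun ⟨_, _, r, hr, r1, r2, r3⟩ => r1 (by
    rw [(struct_unique hH.setup ⟨Q_fix hH.setup (mul_mem hr hr), r1, r2⟩ (k2 ⟨a, mX a md⟩ md) hr
      (hS ⟨⟨a, mX a md⟩, md, rfl⟩) r3 (by
        simp only [← map_mul, ← map_inv]; exact congrArg f (Subtype.ext e3))).2]
    exact (k2 _ md).2.2)
  have k0 : ∀ y z : X, (y : G) ∈ Om D a x → (z : G) ∈ Om D a x → Commute (f y) (f z) → SameC D (y : G) z :=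
    fun y z hy hz c => by_contra fun n => by
      have o := op_coe.1 (h.op_of_Om hD ht hc hE hy hz n)
      have s1 : y * y = 1 := Subtype.ext (r1.sq _ hy)
      have s2 : z * z = 1 := Subtype.ext (r1.sq _ hz)
      refine o.mul_ne_one s1 (eq_one_of_odd_sq o.2 (eq_one_of_odd_mem (pCore_isPGroup 2 X) ((ker _).1 ?_)
        (pow_two (y * z) ▸ odd_pow o.2 2)))
      rw [map_mul, map_mul]
      exact sq_mul_of_commute (by rw [← map_mul, s1, map_one]) (by rw [← map_mul, s2, map_one]) c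
  have cj : ∀ (g : X) {y}, y ∈ Om D a x → g * y * (g : G)⁻¹ ∈ Om D a x := fun g y hy =>
    h.cj_mem_Om hD ht hc hE hy (eL ▸ g.2)
  have k1 : ∀ q ∈ Q, q ≠ 1 → ∃ e : X, (e : G) ∈ Eb D a ∧ f e = q := fun q hq q1 => by
    obtain ⟨g, e⟩ := invol_conj hH.setup (k2 ⟨a, mX a md⟩ md).2.1 (k2 _ md).2.2 q1 (hA q hq)
    obtain ⟨g, rfl⟩ := surj g
    rw [← map_mul, ← map_inv, ← map_mul] at e
    exact ⟨_, ⟨(m (cj g (sub md))).1, k0 ⟨a, mX a md⟩ _ (sub md) (cj g (sub md))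
      (e ▸ II_central hH.setup hH.nil (k2 _ md) hq)⟩, e⟩
  have c1 : ∀ g : X, f g = 1 → ∀ α ∈ Eb D a, Commute (g : G) α := fun g hg α hα => by
    have s := k0 ⟨α, mX α hα⟩ (g * ⟨α, mX α hα⟩ * g⁻¹) (sub hα) (cj g (sub hα)) (by simp [hg])
    refine commute_of_cj_eq (by_contra fun n => ?_)
    have l := hD.ln_of_hE hE hα.1 (m (cj g (sub hα))).1 s (Ne.symm n)
    refine (k2 (⟨α, mX α hα⟩ * (g * ⟨α, mX α hα⟩ * g⁻¹)) ⟨l.m, hα.2.trans (hD.sameC_third hc l s)⟩).2.1 ?_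
    simpa [hg] using (k2 _ hα).2.2
  have c2 : ∀ g : X, f g = 1 → ∀ y, Commute g y := by
    intro g hg
    refine commute_of_gens gen ?_
    rintro s (hs | rfl)
    · exact commute_coe.1 (c1 g hg s hs)
    · obtain ⟨r, hr, m, e⟩ := hD.exists_swap h.l (m mt).1 ot
      have hrX := mem_of_mem_closure_pair (mX a md) hxX m
      have sr := hD.sq r hr
      have := commute_cji (c1 (⟨r, hrX⟩ * g * ⟨r, hrX⟩) (by
        rw [map_mul, map_mul, hg, mul_one, ← map_mul, show (⟨r, hrX⟩ * ⟨r, hrX⟩ : X) = 1 from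
          Subtype.ext sr, map_one]) a md) sr
      rw [e] at this
      refine commute_coe.1 ?_
      simpa only [Subgroup.coe_mul, cji_cji sr] using this
  have c3 : ∀ y : X, f y ∈ Q → ∃ e z : X, (e : G) ∈ EE D a ∧ f z = 1 ∧ y = e * z := by
    intro y hy
    by_cases h1 : f y = 1
    · exact ⟨1, y, one_mem _, h1, (one_mul y).symm⟩
    · obtain ⟨e, he, e1⟩ := k1 _ hy h1
      exact ⟨e, e⁻¹ * y, subset_closure he, by simp [e1], by group⟩
  have inj : Function.Injective f := by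
    obtain ⟨P⟩ : Nonempty (Sylow 2 X) := inferInstance
    have hP : IsMulCommutative P := by
      obtain ⟨g, hg⟩ := exists_conj_le_Q hH.setup (P.2.map f)
      obtain ⟨g, rfl⟩ := surj g
      refine ⟨⟨fun u v => Subtype.ext ((commute_cj_iff g).1 ?_)⟩⟩
      obtain ⟨e, z, he, hz, e1⟩ := c3 (g * u * g⁻¹) (by simpa using hg _ ⟨u, u.2, rfl⟩)
      obtain ⟨e', z', he', hz', e2⟩ := c3 (g * v * g⁻¹) (by simpa using hg _ ⟨v, v.2, rfl⟩)
      rw [e1, e2]
      exact ((commute_coe.1 (commute_EE he he')).mul_right (c2 z' hz' e).symm).mul_left (c2 z hz _)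
    have := Trans.not_dvd_card_center_inf_commutator P hP
    have top : closure (clsIn X t) = ⊤ := by
      rw [eq_top_iff, ← gen]
      exact closure_mono (Set.union_subset mC (Set.singleton_subset_iff.2 ⟨1, one_mem _, by simp⟩))
    rw [(rt_clsIn r1 r2 hX mt).commutator_eq_top top (by
      rintro a ⟨g, hg, e⟩ c ⟨k, hk, e'⟩
      refine ⟨⟨k, hk⟩ * ⟨g, hg⟩⁻¹, top ▸ mem_top _, Subtype.ext ?_⟩
      push_cast
      rw [e, e']; group) l', inf_top_eq] at this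
    rw [injective_iff_map_eq_one]
    intro g hg
    refine eq_one_of_odd_mem (pCore_isPGroup 2 X) ((ker g).1 hg) (Nat.not_even_iff_odd.1 fun e => this ?_)
    exact (even_iff_two_dvd.1 e).trans
      (orderOf_dvd_natCard _ (mem_center_iff.2 fun y => (c2 g hg y).symm))
  obtain ⟨F, i1, i2, hF, ψ, s1, s2, s3, s4⟩ := RI.exists_sl2 hH hA hL
  let e := MulEquiv.ofBijective f ⟨inj, surj⟩
  have e0 : ∀ y : X, (y : G) ∈ EE D a ↔ f y ∈ Q := fun y => by
    refine ⟨fun hy => ?_, fun hy => ?_⟩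
    · rcases (hE.mem_EE hD hc).1 hy with hy | hy
      · exact hS ⟨y, hy, rfl⟩
      · rw [show y = 1 from Subtype.ext hy, map_one]; exact one_mem _
    · obtain ⟨e, z, he, hz, rfl⟩ := c3 y hy
      rwa [inj (hz.trans (map_one f).symm), mul_one]
  let φ := X.subtype.comp (e.symm.toMonoidHom.comp ψ)
  have eU : (upperUnipotentSL2 F).map φ = EE D a := by
    ext g
    refine ⟨?_, fun hg => ?_⟩
    · rintro ⟨_, hu, rfl⟩
      obtain ⟨c, rfl⟩ := mem_upperUnipotentSL2.1 hu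
      exact (e0 _).2 ((s4 _).2 ⟨c, (e.apply_symm_apply _).symm⟩)
    · obtain ⟨c, hc⟩ := (s4 _).1 ((e0 ⟨g, le hg⟩).1 hg)
      exact ⟨_, mem_upperUnipotentSL2.2 ⟨c, rfl⟩, congrArg Subtype.val (e.symm_apply_eq.2 hc)⟩
  have eW : φ sl2W = t := congrArg Subtype.val (e.symm_apply_eq.2 s3)
  have eV : (lowerUnipotentSL2 F).map φ = EE D x := by
    have k : ∀ c : F, slV c = sl2W * slU (-c) * sl2W⁻¹ := fun c => by
      rw [eq_mul_inv_iff_mul_eq]
      refine sl2_ext ?_ ?_ ?_ ?_ <;> rw [sl2_mul_apply, sl2_mul_apply] <;> simp [sl2W]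
    rw [← eE, ← eU, ← eW]
    ext g
    refine ⟨?_, ?_⟩
    · rintro ⟨_, hu, rfl⟩
      obtain ⟨c, rfl⟩ := mem_lowerUnipotentSL2.1 hu
      exact ⟨_, ⟨_, mem_upperUnipotentSL2.2 ⟨-c, rfl⟩, rfl⟩, by simp [k]⟩
    · rintro ⟨_, ⟨_, hu, rfl⟩, rfl⟩
      obtain ⟨c, rfl⟩ := mem_upperUnipotentSL2.1 hu
      exact ⟨_, mem_lowerUnipotentSL2.2 ⟨-c, rfl⟩, by simp [k]⟩
  refine ⟨F, i1, i2, hF.trans (Nat.card_congr (Equiv.ofBijective
    (fun y : EE D a => (⟨f ⟨y, le y.2⟩, (e0 _).1 y.2⟩ : Q)) ⟨fun y y' k => ?_, fun q => ?_⟩)).symm, ?_⟩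
  · exact Subtype.ext (congrArg (Subtype.val : X → G) (inj (congrArg Subtype.val k)))
  · obtain ⟨y, hy⟩ := surj q
    exact ⟨⟨y, (e0 y).2 (hy ▸ q.2)⟩, Subtype.ext hy⟩
  · rw [← eU, ← eV]
    refine isPSL2PairOver_of_hom φ fun g hg => s2.le ?_
    simpa [φ, MonoidHom.mem_ker] using hg

omit hc hE h [Finite G] in
theorem Rt.mem_normalizer_of_fx (k : Fx D g a) : g ∈ normalizer (EE D a : Set G) := by
  have := hD.map_EE ht a g
  rw [← EE_congr k] at this
  refine mem_normalizer_iff.2 fun y => ⟨fun hy => this ▸ ⟨y, hy, rfl⟩, fun hy => ?_⟩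
  obtain ⟨z, hz, e⟩ := this.ge hy
  rwa [← (MulAut.conj g).injective e]

theorem Cl.commute_of_fx [Gate.S1175.{u}] (hg : g ∈ EE D a ⊔ EE D x) (hg' : g' ∈ EE D a ⊔ EE D x) (h1 : Fx D g a)
    (h2 : Fx D g x) (h3 : Fx D g' a) (h4 : Fx D g' x) : Commute g g' :=
  let ⟨_, _, _, _, k⟩ := h.sl2 hD ht hc hE
  k.commute_of_norm hg hg' (hD.mem_normalizer_of_fx ht h1) (hD.mem_normalizer_of_fx ht h2)
    (hD.mem_normalizer_of_fx ht h3) (hD.mem_normalizer_of_fx ht h4)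

end Cfsg.Lib.Class.RI
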