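import Cfsg.Agent.RI5.D3
import Cfsg.Agent.RI5.C
import Cfsg.Agent.RI5.SL

/-!
# The root involution theorem: paths of length four fixed by the tori
-/

set_option autoImplicit false

namespace Cfsg.Lib.Class.RI

open Subgroup Cfsg.Lib.Local Cfsg.Agent
open scoped commutatorElement

universe u

variable {G : Type u} [Group G] [Finite G] {D : Set G}

/-- the torus of `⟨E(a), E(x)⟩` fixes the point `y` -/
def TF (D : Set G) (a x y : G) : Prop := ∀ n n', NN D a x n → NN D a x n' → Fx D (n * n') y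

omit [Finite G] in
theorem TF.symm {a x y : G} (k : TF D a x y) : TF D x a y := fun n n' h h' => k n n' h.symm h'.symm

theorem Nd.nn_fx (h : Nd D) {a x n g : G} (k : NN D a x n) (ga : Fx D g a) (gx : Fx D g x) :
    NN D a x (g * n * g⁻¹) := (h.nn_cj k g).congr ga.symm gx.symm

theorem Nd.fx_sw (h : Nd D) {n g y y' : G} (hn : n ∈ D) (k : Fx D g y')
    (s : SameC D y (n * y' * n)) : Fx D (n * g * n⁻¹) y :=
  h.fx_congr (by rw [h.rt.inv hn]; exact s.symm) (h.fx_cj k n)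

namespace Fm

variable {a b c x n n' : G} (f : Fm D a b c x) (h : Nd D) (hE : HE D)
include f h hE

theorem tw (k : NN D a x n) (k' : NN D a x n') (ne : n ≠ n') :
    ∃ a₀ a₁, Tw D a b c x a₀ a₁ n' n (n * n') := by
  obtain ⟨a₁, ha, x₁, hx, o, e⟩ := k
  obtain ⟨a₀, ha', x₀, hx', o', e'⟩ := k'
  refine ⟨a₀, a₁, f, ha', ha, ?_, ⟨x₀, hx', o', e'⟩, ⟨x₁, hx, o, e⟩, rfl⟩
  rintro rfl
  exact ne (by rw [e, e', h.o3_unique hE ha.1 hx.1 hx'.1 (hx.2.symm.trans hx'.2) o o'])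

theorem fx_x (k : NN D a x n) (k' : NN D a x n') : Fx D (n * n') x :=
  f.symm.fx_a h hE k.symm k'.symm

theorem fx_c (k : NN D a x n) (k' : NN D a x n') : Fx D (n * n') c :=
  f.symm.fx_b h hE k.symm k'.symm

variable [Gate.S1175.{u}]

theorem fpf (k : NN D a x n) (k' : NN D a x n') (ne : n ≠ n') :
    ∀ e ∈ EE D b, n * n' * e * (n * n')⁻¹ = e → e = 1 := fun _ he e => by
  obtain ⟨a₀, a₁, T⟩ := f.tw h hE k k' ne
  exact T.L2 h hE he e

theorem exists_ne (hq : Big D) (n : G) : ∃ n', NN D a x n' ∧ n ≠ n' := by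
  obtain ⟨a₀, a₁, n₀, n₁, t, T⟩ := f.exists_tw h hE hq
  by_cases e : n = n₀
  · refine ⟨n₁, T.nn1, fun e' => h.rt.ne b f.ab.l (T.L2 h hE (mem_EE f.ab.l (SameC.refl D b)) ?_)⟩
    rw [T.et, ← e, ← e', h.rt.sq n (e ▸ T.nn0.mem h.rt)]
    simp
  · exact ⟨n₀, T.nn0, e⟩

theorem exists_two (hq : Big D) : ∃ n n', NN D a x n ∧ NN D a x n' ∧ n ≠ n' := by
  obtain ⟨n, k, -⟩ := f.exists_ne h hE hq 1
  obtain ⟨n', k', ne⟩ := f.exists_ne h hE hq n
  exact ⟨n, n', k, k', ne⟩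

variable (r : R2 D) (hq : Big D)
include r hq

theorem N2 (k : NN D a x n) (k' : NN D a x n') {u : G} (l : Ln D a u) :
    Commute u (n * n' * u * (n * n')⁻¹) := by
  by_cases e : n = n'
  · subst e
    rw [h.rt.sq n (k.mem h.rt)]
    simp
  · obtain ⟨a₀, a₁, T⟩ := f.tw h hE k k' e
    exact T.N2 h hE r hq l

theorem tf_of (k : NN D a x n) (k' : NN D a x n') (ne : n ≠ n') {d : G} (l : Ln D a d)
    (fd : Fr d b) (t : Fx D (n * n') d) : TF D a x d := fun m m' j j' => by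
  have nd : ¬ SameC D a d := fun s => h.rt.ncf l.r f.ab.l fd ((s b f.ab.l).1 f.ab.c.symm)
  have c : Commute (m * m') (n * n') := (f.cl h hE).commute_of_fx h.rt h.top h.cls hE
    (mul_mem j.mem_sup j'.mem_sup) (mul_mem k.mem_sup k'.mem_sup) (f.fx_a h hE j j')
    (f.fx_x h hE j j') (f.fx_a h hE k k') (f.fx_x h hE k k')
  have t' := h.fx_cj t (m * m')
  rw [cj_eq_of_commute c] at t'
  have l' := h.ln_fx hE l nd (f.fx_a h hE j j')
  exact h.fix_unique hE r l f.ab.symm fd l'.1 l'.2 (f.N2 h hE r hq j j' l) (f.fx_b h hE k k')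
    (f.fpf h hE k k' ne) t t'

/-- On each line through `a` other than `a b` the torus fixes a second point. -/
theorem exists_tf {u : G} (l : Ln D a u) (fu : Fr u b) :
    ∃ d, Ln D a d ∧ Fr d b ∧ Commute u d ∧ TF D a x d := by
  obtain ⟨n, n', k, k', ne⟩ := f.exists_two h hE hq
  obtain ⟨b', hb, t⟩ := h.exists_fix hE r l f.ab.symm fu (f.fx_a h hE k k') (f.fx_b h hE k k')
    (f.fpf h hE k k' ne) (f.N2 h hE r hq k k' l)
  have l' := h.ln_cj l b'
  have f' := fu.cj b'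
  rw [cj_eq_of_commute (commute_of_mem_EE hb f.ab.r f.ab.c)] at l'
  rw [cj_eq_of_commute (commute_of_mem_EE hb f.ab.l (Commute.refl b))] at f'
  refine ⟨_, l', f', ?_, f.tf_of h hE r hq k k' ne l' f' t⟩
  rw [cj_eq_br]
  exact (commute_EE_MM (h.rt.comm_mem_EE h.cls (f.bMa h hE hb) (mem_MM l)) (mem_MM l)).symm.mul_right
    (Commute.refl u)

/-- If the torus of `(a, x)` fixes `d`, the torus of `(d, c)` fixes `x`. -/
theorem tf_back {d : G} (l : Ln D a d) (fd : Fr d b) (t : TF D a x d) : TF D c d x := by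
  have f0 : Fm D c b a d := ⟨f.bc, f.ab, l, f.ac.symm, fd.symm⟩
  obtain ⟨y, ly, fy, cy, ty⟩ := f0.exists_tf h hE r hq f.cx f.bx.symm
  obtain ⟨n, n', k, k', ne⟩ := f.exists_two h hE hq
  obtain ⟨m, m', j, j', ne'⟩ := f0.exists_two h hE hq
  have ny : ¬ SameC D c y := fun s => h.rt.ncf ly.r f.ab.l fy ((s b f.ab.l).1 f.bc.c.symm)
  have tc := f.fx_c h hE k k'
  have l' := h.ln_fx hE ly ny tc
  have e := h.fx_cj (ty _ _ (h.nn_fx j (h.fx_inv tc) (h.fx_inv (t _ _ k k')))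
    (h.nn_fx j' (h.fx_inv tc) (h.fx_inv (t _ _ k k')))) (n * n')
  rw [show n * n' * ((n * n')⁻¹ * m * (n * n')⁻¹⁻¹ * ((n * n')⁻¹ * m' * (n * n')⁻¹⁻¹)) *
    (n * n')⁻¹ = m * m' by group] at e
  have c1 : Commute x (n * n' * y * (n * n')⁻¹) :=
    (f.fx_x h hE k k' _ l'.1.r).2 (commute_cj cy _)
  have t1 : Fx D (n * n') y := h.fix_unique hE r ly f.bc.symm fy l'.1 l'.2
    (h.commute_trans r f.cx ly l'.1 (f.symm.nba h) ny cy c1) (f0.fx_b h hE j j')
    (f0.fpf h hE j j' ne') (ty _ _ j j') e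
  have s := h.fix_unique hE r f.cx f.bc.symm f.bx.symm ly ny cy (f.fx_b h hE k k')
    (f.fpf h hE k k' ne) (f.fx_x h hE k k') t1
  exact fun p p' i i' => h.fx_congr s.symm (ty p p' i i')

end Fm

namespace Cl

variable {a x n n' : G} (cl : Cl D a x) (h : Nd D) (hE : HE D)
include cl h hE

omit cl h hE [Finite G] in
theorem _root_.Cfsg.Lib.Class.RI.NN.mem_Om (k : NN D a x n) : n ∈ Om D a x := by
  obtain ⟨a', ha, x', hx, -, e⟩ := k
  exact Or.inr ⟨a', subset_closure ha, x', hx, e⟩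

/-- The torus fixes two points of the hyperbolic line only. -/
theorem fix_Om (k : NN D a x n) (k' : NN D a x n') (ne : n ≠ n') {y : G} (hy : y ∈ Om D a x)
    (t : Fx D (n * n') y) : SameC D a y ∨ SameC D x y := by
  have hD := h.rt
  have o := h.nn_op hE k k' ne
  have sn := hD.sq n (k.mem hD)
  have ta := h.fx_of_swap (k.mem hD) (k'.mem hD) (h.nn_l k') (h.nn_r k)
  have tx := h.fx_of_swap (k.mem hD) (k'.mem hD) (h.nn_r k') (h.nn_l k)
  generalize ht : n * n' = t' at t ta tx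
  rcases hy with hy | ⟨e, he, x', hx, rfl⟩
  · exact Or.inl hy.2
  rcases (hE.mem_EE hD h.cls).1 he with m | rfl
  swap
  · exact Or.inr (by simpa using hx.2)
  exfalso
  have he' := h.cj_mem_EE_fx ta he
  have s1 : SameC D (e * x' * e) (t' * e * t'⁻¹ * x' * (t' * e * t'⁻¹)) := by
    refine SameC.trans t ?_
    have := hD.sameC_cji (h.fx_congr hx.2 tx).symm (h.cj m.1 t')
    rwa [show t' * e * t'⁻¹ * (t' * x' * t'⁻¹) * (t' * e * t'⁻¹) = t' * (e * x' * e) * t'⁻¹ by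
      group] at this
  have s2 := hD.sameC_cji s1 m.1
  rw [cji_cji (hD.sq e m.1)] at s2
  have e1 := h.eq_one_of_fx hE (mul_mem he he') hx.1
    (hD.nc cl.l hx.1 (cl.op hD (self_mem_Eb cl.l) hx)) (by
      simpa only [Fx, mul_inv_rev, inv_inv, hD.inv m.1, mul_assoc] using s2)
  have e2 := (eq_of_mul_eq_one (hD.sq e m.1) e1).symm
  obtain ⟨z, hz, oz⟩ := cl.p e m
  have o' := oz.cj t'
  rw [e2] at o'
  have e3 := h.o3_unique hE m.1 hz.1 (h.cj hz.1 t') (h.fx_congr hz.2 tx) oz o'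
  have c := ((commute_of_cj_eq e2).mul_right (commute_of_cj_eq e3.symm)).mul_right
    (commute_of_cj_eq e2)
  have inv : n * t' * n = t'⁻¹ := ht ▸ inverts sn (hD.sq n' (k'.mem hD))
  have od : Odd (orderOf t') := ht ▸ o.2
  refine o.mul_ne_one sn (ht ▸ ?_)
  by_cases q : n = e * z * e
  · rw [← q] at c
    rw [cji_eq c.symm sn] at inv
    exact eq_one_of_odd_sq od (by nth_rewrite 1 [inv]; exact inv_mul_cancel t')
  · exact eq_one_of_inv_of_op (h.nn_op hE k ⟨e, m, z, hz, oz, rfl⟩ q) sn od inv c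

theorem key {a' x' : G} (cl' : Cl D a' x') (k : NN D a x n) (k' : NN D a x n') (ne : n ≠ n')
    (j : NN D a' x' n) (ta : Fx D (n * n') a') (tx : Fx D (n * n') x') :
    (SameC D a a' ∨ SameC D x a') ∧ (SameC D a x' ∨ SameC D x x') := by
  have hD := h.rt
  have sn := hD.sq n (k.mem hD)
  have sn' := hD.sq n' (k'.mem hD)
  have e : (n * n')⁻¹ * n * (n * n')⁻¹⁻¹ = n' * n * n' := by
    rw [inv_inv, mul_inv_rev, inv_of_sq sn, inv_of_sq sn', mul_assoc n' n n, sn, mul_one, mul_assoc]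
  have j' := h.nn_fx j (h.fx_inv ta) (h.fx_inv tx)
  have k'' := cl.cj_mem_Om hD h.top h.cls hE k.mem_Om k'.mem_sup
  rw [e] at j'
  rw [inv_of_sq sn'] at k''
  have ns : ¬ SameC D n (n' * n * n') := fun s =>
    ((h.nn_op hE k' k ne.symm).cj_self sn' sn).not_commute sn (cji_sq sn' sn)
      (s.commute (j'.mem hD))
  have eq := (cl'.Om_eq hD h.top h.cls hE j.mem_Om j'.mem_Om ns).symm.trans
    (cl.Om_eq hD h.top h.cls hE k.mem_Om k'' ns)
  exact ⟨cl.fix_Om h hE k k' ne (eq ▸ cl'.left_mem_Om) ta,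
    cl.fix_Om h hE k k' ne (eq ▸ cl'.right_mem_Om) tx⟩

theorem eq_one_of_four [Gate.S1175.{u}] (k : NN D a x n) (k' : NN D a x n') (ne : n ≠ n') {t : G}
    (od : Odd (orderOf t)) (ta : Fx D t a) (tx : Fx D t x) (e : (n * n' * t) ^ 4 = 1) :
    n * n' * t = 1 := by
  have hD := h.rt
  have m : ∀ {p p' : G}, NN D a x p → NN D a x p' → t * (p * p') * t⁻¹ ∈ EE D a ⊔ EE D x :=
    fun {p p'} i i' => by
      rw [show t * (p * p') * t⁻¹ = t * p * t⁻¹ * (t * p' * t⁻¹) by group]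
      exact mul_mem (h.nn_fx i ta tx).mem_sup (h.nn_fx i' ta tx).mem_sup
  have k1 := h.nn_fx k ta tx
  have k1' := h.nn_fx k' ta tx
  have m4 : t * t * (t * t) ∈ EE D a ⊔ EE D x := by
    have := mul_mem (mul_mem (mul_mem (mul_mem k.mem_sup k'.mem_sup) (m k k')) (m k1 k1'))
      (m (h.nn_fx k1 ta tx) (h.nn_fx k1' ta tx))
    rw [← inv_mem_iff, ← one_mul (_ : G)⁻¹, ← e]
    convert this using 1
    simp only [pow_succ, pow_zero]
    group
  have mt := mem_of_sq_mem od (mem_of_sq_mem (by rw [← pow_two]; exact odd_pow od 2) m4)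
  have c : Commute (n * n') t := cl.commute_of_fx hD h.top h.cls hE (mul_mem k.mem_sup k'.mem_sup)
    mt (h.fx_of_swap (k.mem hD) (k'.mem hD) (h.nn_l k') (h.nn_r k))
    (h.fx_of_swap (k.mem hD) (k'.mem hD) (h.nn_r k') (h.nn_l k)) ta tx
  exact eq_one_of_odd (Odd.of_dvd_nat ((h.nn_op hE k k' ne).2.mul od) c.orderOf_mul_dvd_mul_orderOf)
    (k := 2) e

end Cl

end Cfsg.Lib.Class.RI
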