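import Cfsg.Agent.RI5.E1

/-!
# The root involution theorem: in the rank two case opposite pairs have distance three
-/

set_option autoImplicit false

namespace Cfsg.Lib.Class.RI

open Subgroup Cfsg.Lib.Local Cfsg.Agent
open scoped commutatorElement

universe u

variable {G : Type u} [Group G] [Finite G] {D : Set G}

/-- `g` fixes five points -/
structure F5 (D : Set G) (g d0 d1 d2 d3 d4 : G) : Prop where
  h0 : Fx D g d0
  h1 : Fx D g d1
  h2 : Fx D g d2
  h3 : Fx D g d3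
  h4 : Fx D g d4

/-- a path of length four fixed by the tori of its two subpaths of length three -/
structure Ap (D : Set G) (d0 d1 d2 d3 d4 : G) : Prop where
  f0 : Fm D d0 d1 d2 d3
  f1 : Fm D d1 d2 d3 d4
  t0 : TF D d0 d3 d4
  t1 : TF D d1 d4 d0

omit [Finite G] in
theorem F5.symm {g d0 d1 d2 d3 d4 : G} (k : F5 D g d0 d1 d2 d3 d4) : F5 D g d4 d3 d2 d1 d0 :=
  ⟨k.h4, k.h3, k.h2, k.h1, k.h0⟩

omit [Finite G] in
theorem Ap.symm {d0 d1 d2 d3 d4 : G} (A : Ap D d0 d1 d2 d3 d4) : Ap D d4 d3 d2 d1 d0 :=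
  ⟨A.f1.symm, A.f0.symm, A.t1.symm, A.t0.symm⟩

variable [Gate.S1175.{u}]

theorem Nd.not_op_of_R2 (h : Nd D) (hE : HE D) (r : R2 D) {w u v : G} (hw : w ∈ D) (hu : u ∈ D)
    (hv : v ∈ D) (cu : Commute w u) (cv : Commute w v) : ¬ Op u v := fun o => by
  by_cases e : w = u
  · exact h.rt.nc hu hv o (e ▸ cv)
  by_cases e' : w = v
  · exact h.rt.nc hu hv o (e' ▸ cu).symm
  exact h.rt.not_op_of_ln (h.commute_ln_of_R2 hE r hw hu cu e)
    (h.commute_ln_of_R2 hE r hw hv cv e') o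

theorem Nd.sameC_cm_of_R2 (h : Nd D) (hE : HE D) (r : R2 D) {w u v : G} (hw : w ∈ D) (hu : u ∈ D)
    (hv : v ∈ D) (cu : Commute w u) (cv : Commute w v) (f : Fr u v) : SameC D w (cm u v) :=
  h.rt.sameC_cm h.cls
    (h.commute_ln_of_R2 hE r hw hu cu fun e => h.rt.ncf hu hv f (e ▸ cv))
    (h.commute_ln_of_R2 hE r hw hv cv fun e => h.rt.ncf hu hv f (e ▸ cu).symm) f

namespace Ap

variable {d0 d1 d2 d3 d4 n n' m g : G} (A : Ap D d0 d1 d2 d3 d4) (h : Nd D) (hE : HE D)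
include A h hE

omit [Gate.S1175.{u}] in
theorem mem1 (k : NN D d1 d4 n) (k' : NN D d1 d4 n') : F5 D (n * n') d0 d1 d2 d3 d4 :=
  ⟨A.t1 n n' k k', A.f1.fx_a h hE k k', A.f1.fx_b h hE k k', A.f1.fx_c h hE k k',
    A.f1.fx_x h hE k k'⟩

omit [Gate.S1175.{u}] in
theorem norm1 (k : NN D d1 d4 n) (t : F5 D g d0 d1 d2 d3 d4) :
    F5 D (n * g * n⁻¹) d0 d1 d2 d3 d4 := by
  have hn := k.mem h.rt
  refine ⟨?_, h.fx_sw hn t.h4 (h.nn_r k), h.fx_sw hn t.h3 (A.f1.nn_c h hE k),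
    h.fx_sw hn t.h2 (A.f1.nn_b h hE k), h.fx_sw hn t.h1 (h.nn_l k)⟩
  have := h.fx_mul (A.t1 _ _ k (h.nn_fx k t.h1 t.h4)) t.h0
  rwa [h.rt.inv hn, ← show n * (g * n * g⁻¹) * g = n * g * n by group]

omit [Gate.S1175.{u}] in
theorem norm0 (k : NN D d0 d3 n) (t : F5 D g d0 d1 d2 d3 d4) :
    F5 D (n * g * n⁻¹) d0 d1 d2 d3 d4 := (A.symm.norm1 h hE k.symm t.symm).symm

omit [Gate.S1175.{u}] in
theorem norm (j : NN D d0 d3 m) (k : NN D d1 d4 n) {ρ : G} (hρ : ρ ∈ closure ({m, n} : Set G))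
    (g : G) : F5 D g d0 d1 d2 d3 d4 ↔ F5 D (ρ * g * ρ⁻¹) d0 d1 d2 d3 d4 := by
  induction hρ using closure_induction generalizing g with
  | mem y hy =>
    have hy' : y ∈ D := by
      rcases hy with rfl | rfl
      exacts [j.mem h.rt, k.mem h.rt]
    have H : ∀ g, F5 D g d0 d1 d2 d3 d4 → F5 D (y * g * y⁻¹) d0 d1 d2 d3 d4 := fun g t => by
      rcases hy with rfl | rfl
      exacts [A.norm0 h hE j t, A.norm1 h hE k t]
    refine ⟨H g, fun t => ?_⟩
    have := H _ t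
    rwa [h.rt.inv hy', cji_cji (h.rt.sq y hy')] at this
  | one => simp
  | mul y z _ _ hy hz => rw [hz, hy, show y * (z * g * z⁻¹) * y⁻¹ = y * z * g * (y * z)⁻¹ by group]
  | inv y _ hy => rw [hy (y⁻¹ * g * y⁻¹⁻¹), show y * (y⁻¹ * g * y⁻¹⁻¹) * y⁻¹ = g by group]

omit [Gate.S1175.{u}] in
theorem sameC_of_commute (j : NN D d0 d3 m) (k : NN D d1 d4 n) (c : Commute m n) :
    SameC D d0 d4 := by
  have s := (h.nn_r j).trans (h.rt.sameC_cji (A.f1.nn_b h hE k) (j.mem h.rt))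
  have s' := (h.nn_l k).trans (h.rt.sameC_cji (A.f0.nn_c h hE j) (k.mem h.rt))
  rw [show m * (n * d2 * n) * m = m * n * d2 * (n * m) by group, c.eq] at s
  rw [show n * (m * d2 * m) * n = n * m * d2 * (m * n) by group, c.eq] at s'
  exact s.trans s'.symm

variable (r : R2 D) (hq : Big D)
include r hq

theorem not_op_of_op (j : NN D d0 d3 m) (k : NN D d1 d4 n) (o : Op m n) : ¬ Op d0 d4 := by
  have hD := h.rt
  obtain ⟨ρ, hρ, hm, e⟩ := hD.exists_swap (j.mem hD) (k.mem hD) o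
  obtain ⟨n', k', ne⟩ := A.f1.exists_ne h hE hq n
  have sρ := hD.sq ρ hρ
  have iρ := hD.inv hρ
  have t := (A.norm h hE j k hm _).1 (A.mem1 h hE k k')
  have j' := h.nn_cj j ρ
  have t0 := h.fx_cj t.h0 ρ
  have t3 := h.fx_cj t.h3 ρ
  have cl' := (A.f0.cl h hE).cj hD h.top ρ
  rw [iρ] at j' t0 t3 cl'
  rw [cji_cji sρ] at t0 t3
  rw [e] at j'
  obtain ⟨s0, s3⟩ := (A.f1.cl h hE).key h hE cl' k k' ne j' t0 t3
  have m0 := A.f0.ab.r
  have m1 := A.f0.ab.l
  have m2 := A.f0.bc.r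
  have m3 := A.f0.cx.r
  have m4 := A.f1.cx.r
  have w := hD.cj d2 m2 ρ hρ
  rcases s3 with s3 | s3
  · have s1 := hD.sameC_cji s3 hρ
    rw [cji_cji sρ] at s1
    have c1 : Commute (ρ * d2 * ρ) d1 := ((s3 _ w).2 (commute_cji A.f0.cx.c.symm sρ)).symm
    have c3 : Commute (ρ * d2 * ρ) d3 := ((s1 _ w).1 (commute_cji A.f0.bc.c sρ)).symm
    have fx : Fx D ρ d2 := by
      rw [Fx, iρ]
      exact (A.f1.sb h).trans (h.sameC_cm_of_R2 hE r w m1 m3 c1 c3 A.f1.ac).symm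
    have c := hD.commute_cj_of_not_op m1 hρ
      (h.not_op_of_R2 hE r m2 m1 hρ A.f0.bc.c.symm (h.commute_of_fx hρ m2 fx).symm)
    exact absurd ((s1 d1 m1).1 c.symm).symm (hD.ncf m1 m3 A.f1.ac)
  rcases s0 with s0 | s0
  · have s1 := hD.sameC_cji s0 hρ
    rw [cji_cji sρ] at s1
    exact h.not_op_of_R2 hE r w m0 m4 ((s1 _ w).1 (commute_cji A.f0.bc.c sρ)).symm
      ((s3 _ w).2 (commute_cji A.f0.cx.c.symm sρ)).symm
  · exact absurd (s0.symm.trans s3) (cl'.not_sameC hD)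

/-- The ends of such a path are not opposite. -/
theorem not_op : ¬ Op d0 d4 := fun o => by
  have hD := h.rt
  obtain ⟨m, j, -⟩ := A.f0.exists_ne h hE hq 1
  obtain ⟨n', n, k', k, ne⟩ := A.f1.exists_two h hE hq
  have hm := j.mem hD
  have hn := k.mem hD
  have hn' := k'.mem hD
  have no := fun o' => A.not_op_of_op h hE r hq j k o' o
  have no' := fun o' => A.not_op_of_op h hE r hq j k' o' o
  have f := hD.fr_of hm hn (fun c => hD.nc A.f0.ab.r A.f1.cx.r o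
    ((A.sameC_of_commute h hE j k c).commute A.f1.cx.r)) no
  have c := hD.commute_cj_of_not_op hm hn no
  have c' := hD.commute_cj_of_not_op hm hn' no'
  have hv := hD.cj m hm n hn
  have hv' := hD.cj m hm n' hn'
  have o1 := h.nn_op hE k' k ne
  have t := A.norm1 h hE k (A.norm0 h hE j (A.mem1 h hE k' k))
  have e : n' * n * (n * (m * (n' * n) * m⁻¹) * n⁻¹) = n' * m * n' * (n * m * n) := by
    simp only [hD.inv hm, hD.inv hn, mul_assoc, il (hD.sq n hn)]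
  have e4 : (n' * m * n' * (n * m * n)) ^ 4 = 1 := by
    rcases hD.tri hv' hv with q | q | q
    · rw [show 4 = 2 * 2 from rfl, pow_mul, pow_two (_ * _),
        sq_mul_of_commute (hD.sq _ hv') (hD.sq _ hv) q, one_pow]
    · exact absurd q (h.not_op_of_R2 hE r hm hv' hv c' c)
    · rw [← show orderOf _ = 4 from q, pow_orderOf_eq_one]
  have e1 := (A.f1.cl h hE).eq_one_of_four h hE k' k ne
    (by rw [orderOf_cj, orderOf_cj]; exact o1.2) t.h1 t.h4 (by rw [e, e4])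
  rw [e] at e1
  have e2 := eq_of_mul_eq_one (hD.sq _ hv') e1
  refine h.not_op_of_R2 hE r (hD.cm_mem hm hn f) hn' hn ?_
    (f.commute_r (hD.sq m hm) (hD.sq n hn)).symm o1
  rw [cm_eq_mul_cj, ← e2]
  refine (commute_of_cji (hD.sq n' hn') ?_).symm
  rw [cji_mul (hD.sq n' hn'), cji_cji (hD.sq n' hn'), c'.eq]

end Ap

/-- In the rank two case with large root subgroups all opposite pairs have distance three. -/
theorem Nd.good_of_R2 (h : Nd D) (hE : HE D) (r : R2 D) (hq : Big D) {a x : G} (ha : a ∈ D)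
    (hx : x ∈ D) (o : Op a x) : Good D a x := by
  have hD := h.rt
  suffices H : ∀ z, Ec D x z → Op z x → Good D z x from H a (h.ec hx ha) o
  intro z hz
  induction hz with
  | refl => exact fun o => absurd rfl o.1
  | @tail a d _ l ih =>
    intro od
    by_cases oa : Op a x
    swap
    · exact h.good_of_near hE l.r hx l.l od l.c oa
    obtain ⟨b, lb, fb⟩ := (ih oa).ex
    by_cases c : Commute d b
    · exact h.good_of_near hE l.r hx lb.r od c.symm fb.not_op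
    have st := hD.step lb hx oa fb
    have f : Fm D a b (cm x b) x :=
      ⟨lb.symm, hD.ln_cm' hx lb.r fb.symm, st.1.symm, st.2.symm, fb⟩
    obtain ⟨p, lp, fp, cp, tp⟩ := f.exists_tf h hE r hq l (hD.fr_of_ln' l lb c)
    have A : Ap D p a b (cm x b) x :=
      ⟨⟨lp, lb, f.bc, fp, f.ac⟩, f, (f.tf_back h hE r hq lp fp tp).symm, tp⟩
    exact h.good_of_near hE l.r hx lp.r od cp.symm (A.not_op h hE r hq)

end Cfsg.Lib.Class.RI
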