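import Cfsg.Agent.RI5.Base

/-!
# The hyperbolic line of a closed pair of root subgroups
-/

set_option autoImplicit false
set_option linter.unusedSectionVars false

namespace Cfsg.Lib.Class.RI

open Subgroup

universe u

variable {G : Type u} [Group G] [Finite G] {D : Set G}

variable (hD : Rt D) (ht : closure D = ⊤) (hc : Cls D) (hE : HE D) {a x y y' y1 y2 g : G}
include hD

section
omit [Finite G]

include ht

theorem Rt.sameC_cj (s : SameC D y y') (g : G) : SameC D (g * y * g⁻¹) (g * y' * g⁻¹) :=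
  s.cj fun _ hd => hD.cj_mem' ht hd g

theorem Rt.sameC_cj_iff (g : G) : SameC D (g * y * g⁻¹) (g * y' * g⁻¹) ↔ SameC D y y' :=
  ⟨fun s => by simpa [mul_assoc] using hD.sameC_cj ht s g⁻¹, fun s => hD.sameC_cj ht s g⟩

theorem Rt.cji_mem {e d : G} (he : e * e = 1) (hd : d ∈ D) : e * d * e ∈ D := by
  simpa only [inv_of_sq he] using hD.cj_mem ht hd e

theorem Rt.sameC_cji_iff {e : G} (he : e * e = 1) : SameC D (e * y * e) (e * y' * e) ↔ SameC D y y' := by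
  simpa only [inv_of_sq he] using hD.sameC_cj_iff ht (y := y) (y' := y') e

theorem Rt.cj_mem_Eb (h : y' ∈ Eb D y) (g : G) : g * y' * g⁻¹ ∈ Eb D (g * y * g⁻¹) :=
  ⟨hD.cj_mem ht h.1 g, hD.sameC_cj ht h.2 g⟩

theorem Rt.cj_mem_EE (h : y' ∈ EE D y) (g : G) : g * y' * g⁻¹ ∈ EE D (g * y * g⁻¹) := by
  induction h using closure_induction with
  | mem s hs => exact subset_closure (hD.cj_mem_Eb ht hs g)
  | one => simp
  | mul s t _ _ h1 h2 => simpa only [conj_mul] using mul_mem h1 h2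
  | inv s _ h1 => simpa only [conj_inv] using inv_mem h1

theorem Rt.map_EE (y g : G) : (EE D y).map (MulAut.conj g).toMonoidHom = EE D (g * y * g⁻¹) := by
  refine le_antisymm (by rintro _ ⟨s, hs, rfl⟩; exact hD.cj_mem_EE ht hs g) fun s hs => ⟨g⁻¹ * s * g, ?_, by simp [mul_assoc]⟩
  simpa [mul_assoc] using hD.cj_mem_EE ht hs g⁻¹

/-- membership in terms of points -/
theorem Rt.mem_Om : y ∈ Om D a x ↔ y ∈ D ∧ (SameC D a y ∨ ∃ e ∈ EE D a, SameC D (e * x * e) y) := by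
  refine ⟨?_, ?_⟩
  · rintro (h | ⟨e, he, x', h, rfl⟩)
    · exact ⟨h.1, .inl h.2⟩
    · exact ⟨hD.cji_mem ht (hD.sq_EE he) h.1, .inr ⟨e, he, (hD.sameC_cji_iff ht (hD.sq_EE he)).2 h.2⟩⟩
  · rintro ⟨hy, h | ⟨e, he, h⟩⟩
    · exact .inl ⟨hy, h⟩
    · have k := hD.sq_EE he
      refine .inr ⟨e, he, e * y * e, ⟨hD.cji_mem ht k hy, ?_⟩, (cji_cji k y).symm⟩
      simpa only [cji_cji k] using (hD.sameC_cji_iff ht k).2 h

end

namespace Cl

variable (h : Cl D a x)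
include h

theorem op {a' x' : G} (ha : a' ∈ Eb D a) (hx : x' ∈ Eb D x) : Op a' x' := by
  obtain ⟨z, hz, o⟩ := h.p a' ha
  exact ((hD.sameA_of_sameC hz.1 hx.1 (hz.2.symm.trans hx.2) a' ha.1).1 o.1.symm).symm

theorem not_sameC : ¬ SameC D a x := fun s =>
  hD.nc h.l h.r (h.op hD (self_mem_Eb h.l) (self_mem_Eb h.r)) (s.commute h.r)

include ht

theorem mem_of_Om (hy : y ∈ Om D a x) : y ∈ D ∧ y ∈ EE D a ⊔ EE D x := by
  refine ⟨((hD.mem_Om ht).1 hy).1, ?_⟩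
  rcases hy with hy | ⟨e, he, x', hx, rfl⟩
  · exact mem_sup_left (subset_closure hy)
  · exact mul_mem (mul_mem (mem_sup_left he) (mem_sup_right (subset_closure hx))) (mem_sup_left he)

theorem mem_Om_of_sameC (hy : y ∈ Om D a x) (hy' : y' ∈ D) (s : SameC D y y') : y' ∈ Om D a x := by
  rw [hD.mem_Om ht] at hy ⊢
  exact ⟨hy', hy.2.imp (·.trans s) fun ⟨e, he, k⟩ => ⟨e, he, k.trans s⟩⟩

omit hD ht in
theorem left_mem_Om : a ∈ Om D a x := .inl (self_mem_Eb h.l)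

omit hD ht in
theorem right_mem_Om : x ∈ Om D a x := .inr ⟨1, one_mem _, x, self_mem_Eb h.r, by simp⟩

include hc hE

theorem Om_le : Om D a x ⊆ Om D x a := fun y hy => by
  rw [hD.mem_Om ht] at hy ⊢
  obtain ⟨hy, s | ⟨e, he, s⟩⟩ := hy
  · exact ⟨hy, .inr ⟨1, one_mem _, by simpa⟩⟩
  rcases (hE.mem_EE hD hc).1 he with he | rfl
  · obtain ⟨x', hx, o⟩ := h.p e he
    refine ⟨hy, .inr ⟨x', subset_closure hx, .trans ?_ s⟩⟩
    refine ((hD.sameC_cji_iff ht (hD.sq _ hx.1)).2 he.2).trans ?_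
    rw [← o.2]
    exact (hD.sameC_cji_iff ht (hD.sq _ he.1)).2 hx.2.symm
  · exact ⟨hy, .inl (by simpa using s)⟩

theorem Om_symm : Om D a x = Om D x a := (h.Om_le hD ht hc hE).antisymm (h.symm.Om_le hD ht hc hE)

omit hc hE in
theorem cj_mem_Om_left (hy : y ∈ Om D a x) (hg : g ∈ EE D a) : g * y * g⁻¹ ∈ Om D a x := by
  rcases hy with hy | ⟨e, he, x', hx, rfl⟩
  · rw [cj_eq_of_commute (commute_EE hg (subset_closure hy))]
    exact .inl hy
  · refine .inr ⟨g * e, mul_mem hg he, x', hx, ?_⟩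
    rw [inv_of_sq (hD.sq_EE hg)]
    nth_rw 2 [(commute_EE hg he).eq]
    simp only [mul_assoc]

theorem cj_mem_Om (hy : y ∈ Om D a x) (hg : g ∈ EE D a ⊔ EE D x) : g * y * g⁻¹ ∈ Om D a x := by
  rw [← Subgroup.closure_union] at hg
  induction hg using closure_induction_left generalizing y with
  | one => simpa
  | mul_left s hs k _ ih =>
    rw [show s * k * y * (s * k)⁻¹ = s * (k * y * k⁻¹) * s⁻¹ by group]
    rcases hs with hs | hs
    · exact h.cj_mem_Om_left hD ht (ih hy) (subset_closure hs)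
    · rw [h.Om_symm hD ht hc hE] at ih hy ⊢
      exact h.symm.cj_mem_Om_left hD ht (ih hy) (subset_closure hs)
  | inv_mul_cancel s hs k _ ih =>
    rw [show s⁻¹ * k * y * (s⁻¹ * k)⁻¹ = s⁻¹ * (k * y * k⁻¹) * s⁻¹⁻¹ by group]
    rcases hs with hs | hs
    · exact h.cj_mem_Om_left hD ht (ih hy) (inv_mem (subset_closure hs))
    · rw [h.Om_symm hD ht hc hE] at ih hy ⊢
      exact h.symm.cj_mem_Om_left hD ht (ih hy) (inv_mem (subset_closure hs))

theorem exists_cj_left (hy : y ∈ Om D a x) : ∃ g ∈ EE D a ⊔ EE D x, SameC D (g * a * g⁻¹) y := by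
  rw [h.Om_symm hD ht hc hE, hD.mem_Om ht] at hy
  obtain ⟨-, s | ⟨e, he, s⟩⟩ := hy
  · obtain ⟨x', hx, o⟩ := h.p a (self_mem_Eb h.l)
    have k := hD.sq a h.l
    have k' := hD.sq x' hx.1
    refine ⟨a * x' * a, (h.mem_of_Om hD ht (.inr ⟨a, subset_closure (self_mem_Eb h.l), x', hx, rfl⟩)).2, ?_⟩
    rw [inv_of_sq (cji_sq k k'), o.swap k]
    exact hx.2.symm.trans s
  · exact ⟨e, mem_sup_right he, by rwa [inv_of_sq (hD.sq_EE he)]⟩

/-- double transitivity -/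
theorem exists_cj (h1 : y1 ∈ Om D a x) (h2 : y2 ∈ Om D a x) (n : ¬ SameC D y1 y2) :
    ∃ g ∈ EE D a ⊔ EE D x, SameC D (g * a * g⁻¹) y1 ∧ SameC D (g * x * g⁻¹) y2 := by
  obtain ⟨g, hg, s⟩ := h.exists_cj_left hD ht hc hE h1
  obtain ⟨-, s' | ⟨e, he, s'⟩⟩ := (hD.mem_Om ht).1 (h.cj_mem_Om hD ht hc hE h2 (inv_mem hg))
  · exact absurd (s.symm.trans (by simpa [mul_assoc] using hD.sameC_cj ht s' g)) n
  · refine ⟨g * e, mul_mem hg (mem_sup_left he), ?_, ?_⟩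
    · rwa [show g * e * a * (g * e)⁻¹ = g * (e * a * e⁻¹) * g⁻¹ by group,
        cj_eq_of_commute (commute_EE he (subset_closure (self_mem_Eb h.l)))]
    · simpa [mul_assoc, inv_of_sq (hD.sq_EE he)] using hD.sameC_cj ht s' g

omit hc hE in
theorem cj (g : G) : Cl D (g * a * g⁻¹) (g * x * g⁻¹) := by
  have k : ∀ {a x : G}, (∀ a' ∈ Eb D a, ∃ x' ∈ Eb D x, O3 a' x') → ∀ a' ∈ Eb D (g * a * g⁻¹),
      ∃ x' ∈ Eb D (g * x * g⁻¹), O3 a' x' := fun k a' ha => by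
    obtain ⟨x', hx, o⟩ := k (g⁻¹ * a' * g) (by simpa [mul_assoc] using hD.cj_mem_Eb ht ha g⁻¹)
    refine ⟨_, hD.cj_mem_Eb ht hx g, by simpa [mul_assoc] using o.1.cj g, ?_⟩
    simpa [mul_assoc] using congrArg (fun z => g * z * g⁻¹) o.2
  exact ⟨hD.cj_mem ht h.l g, hD.cj_mem ht h.r g, k h.p, fun x' hx => (k h.symm.p x' hx).imp fun _ q => ⟨q.1, q.2.symm⟩⟩

omit hD ht hc hE in
theorem congr {a' x' : G} (ha : a' ∈ D) (hx : x' ∈ D) (s : SameC D a a') (s' : SameC D x x') : Cl D a' x' :=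
  ⟨ha, hx, Eb_congr s ▸ Eb_congr s' ▸ h.p, Eb_congr s ▸ Eb_congr s' ▸ h.q⟩

theorem cl_of_Om (h1 : y1 ∈ Om D a x) (h2 : y2 ∈ Om D a x) (n : ¬ SameC D y1 y2) : Cl D y1 y2 :=
  let ⟨g, _, s, s'⟩ := h.exists_cj hD ht hc hE h1 h2 n
  (h.cj hD ht g).congr (h.mem_of_Om hD ht h1).1 (h.mem_of_Om hD ht h2).1 s s'

theorem op_of_Om (h1 : y1 ∈ Om D a x) (h2 : y2 ∈ Om D a x) (n : ¬ SameC D y1 y2) : Op y1 y2 :=
  let k := h.cl_of_Om hD ht hc hE h1 h2 n
  k.op hD (self_mem_Eb k.l) (self_mem_Eb k.r)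

theorem EE_le (hy : y ∈ Om D a x) : EE D y ≤ EE D a ⊔ EE D x :=
  (closure_le _).2 fun _ k => (h.mem_of_Om hD ht (h.mem_Om_of_sameC hD ht hy k.1 k.2)).2

theorem Om_subset (h1 : y1 ∈ Om D a x) (h2 : y2 ∈ Om D a x) : Om D y1 y2 ⊆ Om D a x := by
  rintro y (hy | ⟨e, he, z, hz, rfl⟩)
  · exact h.mem_Om_of_sameC hD ht h1 hy.1 hy.2
  · simpa only [inv_of_sq (hD.sq_EE he)] using h.cj_mem_Om hD ht hc hE (h.mem_Om_of_sameC hD ht h2 hz.1 hz.2)
      (h.EE_le hD ht hc hE h1 he)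

theorem Om_eq (h1 : y1 ∈ Om D a x) (h2 : y2 ∈ Om D a x) (n : ¬ SameC D y1 y2) : Om D y1 y2 = Om D a x := by
  refine (h.Om_subset hD ht hc hE h1 h2).antisymm fun y hy => ?_
  obtain ⟨g, hg, s, s'⟩ := h.exists_cj hD ht hc hE h1 h2 n
  obtain ⟨hy', k | ⟨e, he, k⟩⟩ := (hD.mem_Om ht).1 (h.cj_mem_Om hD ht hc hE hy (inv_mem hg)) <;>
    refine (hD.mem_Om ht).2 ⟨(h.mem_of_Om hD ht hy).1, ?_⟩
  · exact .inl (s.symm.trans (by simpa [mul_assoc] using hD.sameC_cj ht k g))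
  · have he' : g * e * g⁻¹ ∈ EE D y1 := by
      have := hD.cj_mem_EE ht he g
      rwa [EE, Eb_congr s] at this
    refine .inr ⟨_, he', ((hD.sameC_cji_iff ht (hD.sq_EE he')).2 s'.symm).trans ?_⟩
    simpa [mul_assoc] using hD.sameC_cj ht k g

theorem sup_eq (h1 : y1 ∈ Om D a x) (h2 : y2 ∈ Om D a x) (n : ¬ SameC D y1 y2) :
    EE D y1 ⊔ EE D y2 = EE D a ⊔ EE D x := by
  have k := h.cl_of_Om hD ht hc hE h1 h2 n
  have e := h.Om_eq hD ht hc hE h1 h2 n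
  exact le_antisymm (sup_le (h.EE_le hD ht hc hE h1) (h.EE_le hD ht hc hE h2))
    (sup_le (k.EE_le hD ht hc hE (e ▸ h.left_mem_Om)) (k.EE_le hD ht hc hE (e ▸ h.right_mem_Om)))

theorem rankOneCondition : RankOneCondition (EE D a) (EE D x) := fun e he e1 => by
  have he := ((hE.mem_EE hD hc).1 he).resolve_right e1
  obtain ⟨x', hx, o⟩ := h.p e he
  refine ⟨x', subset_closure hx, hD.ne _ hx.1, ?_⟩
  rw [conjBy, conjBy, hD.map_EE ht, hD.map_EE ht, inv_inv, inv_inv, hD.inv hx.1, hD.inv he.1, EE, EE,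
    Eb_congr ((hD.sameC_cji_iff ht (hD.sq _ hx.1)).2 he.2), Eb_congr ((hD.sameC_cji_iff ht (hD.sq _ he.1)).2 hx.2), o.2]

theorem isRankOnePair : IsRankOnePair (EE D a) (EE D x) := by
  have k : ∀ d, Group.IsNilpotent (EE D d) := fun d =>
    letI : CommGroup (EE D d) := { mul_comm := fun s t => Subtype.ext (commute_EE s.2 t.2) }
    inferInstance
  refine ⟨fun e => hD.nc h.l h.r (h.op hD (self_mem_Eb h.l) (self_mem_Eb h.r)) ?_, k a, k x,
    h.rankOneCondition hD ht hc hE, h.symm.rankOneCondition hD ht hc hE⟩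
  exact commute_EE (subset_closure (self_mem_Eb h.l)) (e ▸ subset_closure (self_mem_Eb h.r))

end Cl

end Cfsg.Lib.Class.RI
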